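import Mathlib

/-!
# Elementwise API for the mapping cone of a morphism of cochain complexes of modules (helper16)

(generalises `Groth.Agent.Lib.Helper10.KoszulH1` from `f • 𝟙 K` to an arbitrary morphism)
-/

set_option autoImplicit false

namespace Groth.Agent.Lib.Helper16.Wiebe

open CategoryTheory CategoryTheory.Limits CochainComplex HomComplex

universe u

variable {A : Type u} [CommRing A]

section Cone

variable {K L : CochainComplex (ModuleCat.{u} A) ℤ} (φ : K ⟶ L)

/-- first projection of the cone -/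
noncomputable def Fst (p q : ℤ) (h : p + 1 = q) : (mappingCone φ).X p →ₗ[A] K.X q :=
  ((mappingCone.fst φ).1.v p q h).hom

/-- second projection -/
noncomputable def Snd (p : ℤ) : (mappingCone φ).X p →ₗ[A] L.X p :=
  ((mappingCone.snd φ).v p p (add_zero p)).hom

/-- first inclusion -/
noncomputable def Inl (p q : ℤ) (h : p + (-1) = q) : K.X p →ₗ[A] (mappingCone φ).X q :=
  ((mappingCone.inl φ).v p q h).hom

/-- second inclusion -/
noncomputable def Inr (p : ℤ) : L.X p →ₗ[A] (mappingCone φ).X p :=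
  ((mappingCone.inr φ).f p).hom

@[simp] lemma Fst_Inl (p q : ℤ) (h : q + 1 = p) (x : K.X p) :
    Fst φ q p h (Inl φ p q (by omega) x) = x := by
  show ((mappingCone.inl φ).v p q (by omega) ≫ (mappingCone.fst φ).1.v q p h).hom x = x
  rw [mappingCone.inl_v_fst_v]; rfl

@[simp] lemma Snd_Inl (p q : ℤ) (h : p + (-1) = q) (x : K.X p) :
    Snd φ q (Inl φ p q h x) = 0 := by
  show ((mappingCone.inl φ).v p q h ≫ (mappingCone.snd φ).v q q (add_zero q)).hom x = 0
  rw [mappingCone.inl_v_snd_v]; rfl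

@[simp] lemma Fst_Inr (p q : ℤ) (h : p + 1 = q) (x : L.X p) :
    Fst φ p q h (Inr φ p x) = 0 := by
  show ((mappingCone.inr φ).f p ≫ (mappingCone.fst φ).1.v p q h).hom x = 0
  rw [mappingCone.inr_f_fst_v]; rfl

@[simp] lemma Snd_Inr (p : ℤ) (x : L.X p) : Snd φ p (Inr φ p x) = x := by
  show ((mappingCone.inr φ).f p ≫ (mappingCone.snd φ).v p p (add_zero p)).hom x = x
  rw [mappingCone.inr_f_snd_v]; rfl

lemma decomp (p q : ℤ) (h : p + 1 = q) (z : (mappingCone φ).X p) :
    Inl φ q p (by omega) (Fst φ p q h z) + Inr φ p (Snd φ p z) = z := by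
  have := congrArg (fun m => m.hom z) (mappingCone.id_X φ p q h)
  simpa [Fst, Snd, Inl, Inr] using this

lemma cone_ext (p q : ℤ) (h : p + 1 = q) (z z' : (mappingCone φ).X p)
    (h1 : Fst φ p q h z = Fst φ p q h z') (h2 : Snd φ p z = Snd φ p z') : z = z' := by
  rw [← decomp φ p q h z, ← decomp φ p q h z', h1, h2]

lemma Snd_d (i j : ℤ) (h : i + 1 = j) (z : (mappingCone φ).X i) :
    Snd φ j (((mappingCone φ).d i j).hom z) =
      (φ.f j).hom (Fst φ i j h z) + (L.d i j).hom (Snd φ i z) := by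
  have := congrArg (fun m => m.hom z) (mappingCone.d_snd_v φ i j h)
  simpa [Fst, Snd] using this

lemma Fst_d (i j k : ℤ) (hij : i + 1 = j) (hjk : j + 1 = k) (z : (mappingCone φ).X i) :
    Fst φ j k hjk (((mappingCone φ).d i j).hom z) = - (K.d j k).hom (Fst φ i j hij z) := by
  have := congrArg (fun m => m.hom z) (mappingCone.d_fst_v φ i j k hij hjk)
  simpa [Fst] using this

lemma d_Inr (i j : ℤ) (y : L.X i) :
    ((mappingCone φ).d i j).hom (Inr φ i y) = Inr φ j ((L.d i j).hom y) := by
  exact congrArg (fun m => m.hom y) (mappingCone.inr_f_d φ i j)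

lemma d_Inl (i j k : ℤ) (hij : i + (-1) = j) (hik : k + (-1) = i) (x : K.X i) :
    ((mappingCone φ).d j i).hom (Inl φ i j hij x) =
      Inr φ i ((φ.f i).hom x) - Inl φ k i hik ((K.d i k).hom x) := by
  have := congrArg (fun m => m.hom x) (mappingCone.inl_v_d φ i j k hij hik)
  simpa [Inl, Inr] using this

end Cone

end Groth.Agent.Lib.Helper16.Wiebe
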