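import Mathlib
import Groth.Agent.Lib.Helper16.Wiebe.ConeElt

/-!
# Exactness and flatness of the mapping cone of a comparison of resolutions (helper16)
-/

set_option autoImplicit false

namespace Groth.Agent.Lib.Helper16.Wiebe

open CategoryTheory CategoryTheory.Limits CochainComplex HomComplex

universe u

variable {P : Type u} [CommRing P] {K M : CochainComplex (ModuleCat.{u} P) ℤ} (Φ : K ⟶ M)

lemma eq_zero_of_isZero' {X : ModuleCat.{u} P} (h : IsZero X) (x : X) : x = 0 := by
  have := congrArg (fun m => m.hom x) (h.eq_of_src (𝟙 X) 0)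
  simpa using this

lemma hom_comm_apply (i j : ℤ) (x : K.X i) :
    (Φ.f j).hom ((K.d i j).hom x) = (M.d i j).hom ((Φ.f i).hom x) :=
  (congrArg (fun m => m.hom x) (Φ.comm i j)).symm

/-- the cone of a map between two complexes which are exact off degree `0`, vanish in
degree `1`, and which induces a bijection on `H^0`, is exact. -/
theorem cone_exact
    (hK : ∀ i j k : ℤ, i + 1 = j → j + 1 = k → j ≠ 0 →
      Function.Exact (K.d i j).hom (K.d j k).hom)
    (hM : ∀ i j k : ℤ, i + 1 = j → j + 1 = k → j ≠ 0 →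
      Function.Exact (M.d i j).hom (M.d j k).hom)
    (hK1 : IsZero (K.X 1))
    (hinj : ∀ a : K.X 0, (∃ m : M.X (-1), (Φ.f 0).hom a = (M.d (-1) 0).hom m) →
      ∃ a' : K.X (-1), (K.d (-1) 0).hom a' = a)
    (hsurj : ∀ m : M.X 0, ∃ (x : K.X 0) (m' : M.X (-1)),
      m = (Φ.f 0).hom x + (M.d (-1) 0).hom m')
    (i j k : ℤ) (hij : i + 1 = j) (hjk : j + 1 = k) :
    Function.Exact ((mappingCone Φ).d i j).hom ((mappingCone Φ).d j k).hom := by
  intro z
  constructor
  · intro hz
    set a := Fst Φ j k hjk z with ha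
    set m := Snd Φ j z with hm
    have h1 : (K.d k (k + 1)).hom a = 0 := by
      have := Fst_d Φ j k (k + 1) hjk rfl z
      rw [hz, map_zero] at this
      exact neg_eq_zero.mp this.symm
    have h2 : (Φ.f k).hom a + (M.d j k).hom m = 0 := by
      have := Snd_d Φ j k hjk z
      rw [hz, map_zero] at this
      exact this.symm
    -- Step A
    have hA : ∃ a' : K.X j, (K.d j k).hom a' = a := by
      by_cases hk : k = 0
      · subst hk
        obtain rfl : j = -1 := by omega
        refine hinj a ⟨-m, ?_⟩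
        rw [map_neg]
        exact eq_neg_of_add_eq_zero_left h2
      · exact (hK j k (k + 1) hjk rfl hk a).mp h1
    obtain ⟨a', ha'⟩ := hA
    -- Step B
    have hB : (M.d j k).hom ((Φ.f j).hom a' + m) = 0 := by
      rw [map_add, ← hom_comm_apply, ha']
      exact h2
    -- Step C
    have hC : ∃ (x : K.X j) (m' : M.X i), (Φ.f j).hom a' + m = (Φ.f j).hom x + (M.d i j).hom m' ∧
        (K.d j k).hom x = 0 := by
      by_cases hj : j = 0
      · subst hj
        obtain rfl : i = -1 := by omega
        obtain rfl : k = 1 := by omega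
        obtain ⟨x, m', hx⟩ := hsurj ((Φ.f 0).hom a' + m)
        exact ⟨x, m', hx, eq_zero_of_isZero' hK1 _⟩
      · obtain ⟨m', hm'⟩ := (hM i j k hij hjk hj _).mp hB
        exact ⟨0, m', by rw [map_zero, zero_add, hm'], map_zero _⟩
    obtain ⟨x, m', hx, hx0⟩ := hC
    refine ⟨Inl Φ j i (by omega) (-a' + x) + Inr Φ i m', ?_⟩
    have hd1 : (K.d j k).hom (-a' + x) = -a := by
      rw [map_add, map_neg, ha', hx0, add_zero]
    have hx' : (M.d i j).hom m' = (Φ.f j).hom a' + m - (Φ.f j).hom x := by
      rw [hx]; abel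
    rw [map_add, d_Inl Φ j i k (by omega) (by omega), d_Inr, hd1, hx',
      ← decomp Φ j k hjk z, ← ha, ← hm]
    simp only [map_add, map_sub, map_neg]
    abel
  · rintro ⟨y, rfl⟩
    exact congrArg (fun m => m.hom y) ((mappingCone Φ).d_comp_d i j k)

/-- the product of two flat modules is flat -/
lemma flat_prod' {X Y : Type u} [AddCommGroup X] [Module P X] [AddCommGroup Y] [Module P Y]
    [Module.Flat P X] [Module.Flat P Y] : Module.Flat P (X × Y) := by
  rw [Module.Flat.iff_rTensor_preserves_injective_linearMap'.{u, u, u}]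
  intro N N' _ _ _ _ ι hι
  rw [injective_iff_map_eq_zero]
  intro x hx
  have h1 : (LinearMap.fst P X Y).lTensor N x = 0 := by
    apply Module.Flat.rTensor_preserves_injective_linearMap (M := X) ι hι
    rw [map_zero, ← LinearMap.comp_apply, LinearMap.rTensor_comp_lTensor,
      ← LinearMap.lTensor_comp_rTensor, LinearMap.comp_apply, hx, map_zero]
  have h2 : (LinearMap.snd P X Y).lTensor N x = 0 := by
    apply Module.Flat.rTensor_preserves_injective_linearMap (M := Y) ι hι
    rw [map_zero, ← LinearMap.comp_apply, LinearMap.rTensor_comp_lTensor,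
      ← LinearMap.lTensor_comp_rTensor, LinearMap.comp_apply, hx, map_zero]
  have h3 : (LinearMap.inl P X Y) ∘ₗ (LinearMap.fst P X Y) +
      (LinearMap.inr P X Y) ∘ₗ (LinearMap.snd P X Y) = LinearMap.id := by
    ext <;> simp
  have h4 : x = (LinearMap.id : X × Y →ₗ[P] X × Y).lTensor N x := by simp
  rw [h4, ← h3, LinearMap.lTensor_add, LinearMap.add_apply, LinearMap.lTensor_comp,
    LinearMap.lTensor_comp, LinearMap.comp_apply, LinearMap.comp_apply, h1, h2, map_zero,
    map_zero, add_zero]

/-- the terms of a cone are flat if the terms of both complexes are -/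
lemma flat_cone_X (hK : ∀ q, Module.Flat P (K.X q)) (hM : ∀ q, Module.Flat P (M.X q)) (q : ℤ) :
    Module.Flat P ((mappingCone Φ).X q) := by
  have := hK (q + 1)
  have := hM q
  have : Module.Flat P (K.X (q + 1) × M.X q) := flat_prod'
  let e : (mappingCone Φ).X q ≃ₗ[P] (K.X (q + 1) × M.X q) :=
    LinearEquiv.ofLinearMap (LinearMap.prod (Fst Φ q (q + 1) rfl) (Snd Φ q))
      (LinearMap.coprod (Inl Φ (q + 1) q (by omega)) (Inr Φ q))
      (by
        apply LinearMap.ext
        rintro ⟨x, y⟩
        simp)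
      (by
        apply LinearMap.ext
        intro z
        simpa using decomp Φ q (q + 1) rfl z)
  exact Module.Flat.of_linearEquiv e

lemma isZero_cone_X (q : ℤ) (h1 : IsZero (K.X (q + 1))) (h2 : IsZero (M.X q)) :
    IsZero ((mappingCone Φ).X q) := by
  rw [mappingCone.isZero_X_iff]
  exact ⟨h1, h2⟩

end Groth.Agent.Lib.Helper16.Wiebe
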