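import Mathlib

/-!
# Degree `-1` operators on the mapping cone of a scalar multiplication (helper16)

For a cochain complex `K` of `A`-modules and `a : A`, the mapping cone `C` of `a • 𝟙 K` carries
* `sigma a K : Cochain C C (-1)`, the canonical null-homotopy of `a` on `C`;
* `lift a z : Cochain C C (-1)` for every `z : Cochain K K (-1)`, extending `z` to the cone
  (with the Koszul sign on the shifted summand).
-/

set_option autoImplicit false

namespace Groth.Agent.Lib.Helper16.Wiebe

open CategoryTheory CategoryTheory.Limits CochainComplex HomComplex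

universe u

variable {A : Type u} [CommRing A] (a : A) (K : CochainComplex (ModuleCat.{u} A) ℤ)

/-- the canonical null-homotopy of `a` on the cone of `a • 𝟙 K` -/
noncomputable def sigma : Cochain (mappingCone (a • 𝟙 K)) (mappingCone (a • 𝟙 K)) (-1) :=
  mappingCone.descCochain (a • 𝟙 K) (0 : Cochain K (mappingCone (a • 𝟙 K)) (-2))
    (mappingCone.inl (a • 𝟙 K)) (by norm_num)

variable {K}

/-- extension of a degree `-1` cochain to the cone -/
noncomputable def lift (z : Cochain K K (-1)) :
    Cochain (mappingCone (a • 𝟙 K)) (mappingCone (a • 𝟙 K)) (-1) :=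
  mappingCone.descCochain (a • 𝟙 K)
    (-(z.comp (mappingCone.inl (a • 𝟙 K)) (by norm_num : (-1 : ℤ) + (-1) = -2)))
    (z.comp (Cochain.ofHom (mappingCone.inr (a • 𝟙 K))) (add_zero (-1))) (by norm_num)

lemma ofHom_smul {L L' : CochainComplex (ModuleCat.{u} A) ℤ} (b : A) (f : L ⟶ L') :
    Cochain.ofHom (b • f) = b • Cochain.ofHom f := by
  ext p
  simp

variable (K) in
lemma δ_sigma : δ (-1) 0 (sigma a K) = Cochain.ofHom (a • 𝟙 (mappingCone (a • 𝟙 K))) := by
  unfold sigma
  rw [mappingCone.δ_descCochain _ _ _ _ 0 (by norm_num)]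
  simp only [δ_zero, zero_add, Int.negOnePow_zero, one_smul, mappingCone.δ_inl,
    Linear.smul_comp, Category.id_comp, ofHom_smul, Cochain.smul_comp, Cochain.id_comp,
    Cochain.comp_smul, ← smul_add, mappingCone.id]

lemma δ_lift (z : Cochain K K (-1)) (b : A) (hz : δ (-1) 0 z = Cochain.ofHom (b • 𝟙 K)) :
    δ (-1) 0 (lift a z) = Cochain.ofHom (b • 𝟙 (mappingCone (a • 𝟙 K))) := by
  unfold lift
  rw [mappingCone.δ_descCochain _ _ _ _ 0 (by norm_num)]
  rw [δ_neg, δ_comp z (mappingCone.inl (a • 𝟙 K)) (by norm_num : (-1 : ℤ) + (-1) = -2) 0 0 (-1)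
    (by norm_num) (by norm_num) (by norm_num), δ_comp_ofHom, hz]
  simp only [mappingCone.δ_inl, Linear.smul_comp, Category.id_comp, ofHom_smul, Cochain.smul_comp,
    Cochain.id_comp, Cochain.comp_smul, Int.negOnePow_zero, one_smul, Int.negOnePow_neg,
    Int.negOnePow_one, Units.neg_smul, neg_add_rev, neg_neg]
  rw [neg_add_cancel_right, Cochain.comp_smul, ← smul_add, mappingCone.id]

section comp

variable (K) in
@[simp] lemma inl_comp_sigma :
    (mappingCone.inl (a • 𝟙 K)).comp (sigma a K) (by norm_num : (-1 : ℤ) + (-1) = -2) = 0 := by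
  unfold sigma
  exact mappingCone.inl_descCochain _ _ _ _

variable (K) in
@[simp] lemma inr_comp_sigma :
    (Cochain.ofHom (mappingCone.inr (a • 𝟙 K))).comp (sigma a K) (zero_add (-1)) =
      mappingCone.inl (a • 𝟙 K) := by
  unfold sigma
  exact mappingCone.inr_descCochain _ _ _ _

@[simp] lemma inl_comp_lift (z : Cochain K K (-1)) :
    (mappingCone.inl (a • 𝟙 K)).comp (lift a z) (by norm_num : (-1 : ℤ) + (-1) = -2) =
      -(z.comp (mappingCone.inl (a • 𝟙 K)) (by norm_num : (-1 : ℤ) + (-1) = -2)) := by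
  unfold lift
  exact mappingCone.inl_descCochain _ _ _ _

@[simp] lemma inr_comp_lift (z : Cochain K K (-1)) :
    (Cochain.ofHom (mappingCone.inr (a • 𝟙 K))).comp (lift a z) (zero_add (-1)) =
      z.comp (Cochain.ofHom (mappingCone.inr (a • 𝟙 K))) (add_zero (-1)) := by
  unfold lift
  exact mappingCone.inr_descCochain _ _ _ _

variable (K) in
lemma sigma_comp_sigma :
    (sigma a K).comp (sigma a K) (by norm_num : (-1 : ℤ) + (-1) = -2) = 0 := by
  rw [mappingCone.ext_cochain_from_iff (a • 𝟙 K) (-3) (-2) (by norm_num)]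
  constructor
  · rw [← Cochain.comp_assoc _ _ _ (by norm_num : (-1 : ℤ) + (-1) = -2) _ (by norm_num),
      inl_comp_sigma, Cochain.zero_comp, Cochain.comp_zero]
  · rw [← Cochain.comp_assoc_of_first_is_zero_cochain, inr_comp_sigma, inl_comp_sigma,
      Cochain.comp_zero]

lemma sigma_comp_lift_add (z : Cochain K K (-1)) :
    (sigma a K).comp (lift a z) (by norm_num : (-1 : ℤ) + (-1) = -2) +
      (lift a z).comp (sigma a K) (by norm_num : (-1 : ℤ) + (-1) = -2) = 0 := by
  rw [mappingCone.ext_cochain_from_iff (a • 𝟙 K) (-3) (-2) (by norm_num)]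
  constructor
  · rw [Cochain.comp_add, Cochain.comp_zero,
      ← Cochain.comp_assoc _ _ _ (by norm_num : (-1 : ℤ) + (-1) = -2) _ (by norm_num),
      ← Cochain.comp_assoc _ _ _ (by norm_num : (-1 : ℤ) + (-1) = -2) _ (by norm_num),
      inl_comp_sigma, Cochain.zero_comp, zero_add, inl_comp_lift, Cochain.neg_comp,
      Cochain.comp_assoc _ _ _ _ (by norm_num : (-1 : ℤ) + (-1) = -2) (by norm_num),
      inl_comp_sigma, Cochain.comp_zero, neg_zero]
  · rw [Cochain.comp_add, Cochain.comp_zero, ← Cochain.comp_assoc_of_first_is_zero_cochain,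
      ← Cochain.comp_assoc_of_first_is_zero_cochain, inr_comp_sigma, inl_comp_lift,
      inr_comp_lift, Cochain.comp_assoc_of_second_is_zero_cochain, inr_comp_sigma,
      neg_add_cancel]

lemma lift_comp_lift (z z' : Cochain K K (-1))
    (h : z.comp z' (by norm_num : (-1 : ℤ) + (-1) = -2) = 0) :
    (lift a z).comp (lift a z') (by norm_num : (-1 : ℤ) + (-1) = -2) = 0 := by
  rw [mappingCone.ext_cochain_from_iff (a • 𝟙 K) (-3) (-2) (by norm_num)]
  constructor
  · rw [Cochain.comp_zero,
      ← Cochain.comp_assoc _ _ _ (by norm_num : (-1 : ℤ) + (-1) = -2) _ (by norm_num),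
      inl_comp_lift, Cochain.neg_comp,
      Cochain.comp_assoc _ _ _ _ (by norm_num : (-1 : ℤ) + (-1) = -2) (by norm_num),
      inl_comp_lift, Cochain.comp_neg, neg_neg,
      ← Cochain.comp_assoc _ _ _ (by norm_num : (-1 : ℤ) + (-1) = -2) _ (by norm_num), h,
      Cochain.zero_comp]
  · rw [Cochain.comp_zero, ← Cochain.comp_assoc_of_first_is_zero_cochain, inr_comp_lift,
      Cochain.comp_assoc_of_second_is_zero_cochain, inr_comp_lift,
      ← Cochain.comp_assoc_of_third_is_zero_cochain, h, Cochain.zero_comp]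

end comp

section linear

lemma lift_add (z z' : Cochain K K (-1)) : lift a (z + z') = lift a z + lift a z' := by
  rw [mappingCone.ext_cochain_from_iff (a • 𝟙 K) (-2) (-1) (by norm_num)]
  constructor
  · rw [Cochain.comp_add, inl_comp_lift, inl_comp_lift, inl_comp_lift, Cochain.add_comp, neg_add]
  · rw [Cochain.comp_add, inr_comp_lift, inr_comp_lift, inr_comp_lift, Cochain.add_comp]

lemma lift_smul (b : A) (z : Cochain K K (-1)) : lift a (b • z) = b • lift a z := by
  rw [mappingCone.ext_cochain_from_iff (a • 𝟙 K) (-2) (-1) (by norm_num)]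
  constructor
  · rw [Cochain.comp_smul, inl_comp_lift, inl_comp_lift, Cochain.smul_comp, smul_neg]
  · rw [Cochain.comp_smul, inr_comp_lift, inr_comp_lift, Cochain.smul_comp]

lemma lift_zero : lift a (0 : Cochain K K (-1)) = 0 := by
  rw [mappingCone.ext_cochain_from_iff (a • 𝟙 K) (-2) (-1) (by norm_num)]
  constructor
  · rw [Cochain.comp_zero, inl_comp_lift, Cochain.zero_comp, neg_zero]
  · rw [Cochain.comp_zero, inr_comp_lift, Cochain.zero_comp]

end linear

section ext

/-- `w₀ • sigma + lift z`: the extension of the operator `z` on `K` to the cone, with coefficient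
`w₀` on the new variable -/
noncomputable def extOp (w₀ : A) (z : Cochain K K (-1)) :
    Cochain (mappingCone (a • 𝟙 K)) (mappingCone (a • 𝟙 K)) (-1) :=
  w₀ • sigma a K + lift a z

lemma δ_extOp (w₀ : A) (z : Cochain K K (-1)) (b : A)
    (hz : δ (-1) 0 z = Cochain.ofHom (b • 𝟙 K)) :
    δ (-1) 0 (extOp a w₀ z) = Cochain.ofHom ((w₀ * a + b) • 𝟙 (mappingCone (a • 𝟙 K))) := by
  unfold extOp
  rw [δ_add, δ_smul, δ_sigma, δ_lift a _ _ hz]
  rw [ofHom_smul, ofHom_smul, ofHom_smul, add_smul, mul_smul]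

lemma extOp_comp_extOp (w₀ : A) (z : Cochain K K (-1))
    (h : z.comp z (by norm_num : (-1 : ℤ) + (-1) = -2) = 0) :
    (extOp a w₀ z).comp (extOp a w₀ z) (by norm_num : (-1 : ℤ) + (-1) = -2) = 0 := by
  unfold extOp
  simp only [Cochain.add_comp, Cochain.comp_add, Cochain.smul_comp, Cochain.comp_smul,
    sigma_comp_sigma, smul_zero, zero_add, lift_comp_lift a _ _ h, add_zero]
  rw [← smul_add, add_comm, sigma_comp_lift_add, smul_zero]

lemma extOp_add (w₀ w₀' : A) (z z' : Cochain K K (-1)) :
    extOp a (w₀ + w₀') (z + z') = extOp a w₀ z + extOp a w₀' z' := by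
  unfold extOp
  rw [lift_add, add_smul]
  abel

lemma extOp_smul (b w₀ : A) (z : Cochain K K (-1)) :
    extOp a (b * w₀) (b • z) = b • extOp a w₀ z := by
  unfold extOp
  rw [lift_smul, mul_smul, smul_add]

lemma extOp_zero : extOp a 0 (0 : Cochain K K (-1)) = 0 := by
  unfold extOp
  rw [lift_zero, zero_smul, add_zero]

lemma extOp_one_zero : extOp a 1 (0 : Cochain K K (-1)) = sigma a K := by
  unfold extOp
  rw [lift_zero, one_smul, add_zero]

lemma extOp_zero_left (z : Cochain K K (-1)) : extOp a 0 z = lift a z := by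
  unfold extOp
  rw [zero_smul, zero_add]

end ext

end Groth.Agent.Lib.Helper16.Wiebe
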