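import Mathlib

/-!
# Exact bounded-above complexes of flat modules stay exact after tensoring (helper16)
-/

set_option autoImplicit false

namespace Groth.Agent.Lib.Helper16.Wiebe

open CategoryTheory CategoryTheory.Limits TensorProduct

universe u

variable {P : Type u} [CommRing P]

/-- the kernel of a surjection between flat modules is flat -/
theorem flat_ker_of_surjective {X Y : Type u} [AddCommGroup X] [Module P X] [AddCommGroup Y]
    [Module P Y] (f : X →ₗ[P] Y) (hf : Function.Surjective f) [Module.Flat P X]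
    [Module.Flat P Y] : Module.Flat P (LinearMap.ker f) := by
  rw [Module.Flat.iff_rTensor_preserves_injective_linearMap'.{u, u, u}]
  intro N N' _ _ _ _ ι hι
  have h1 : Function.Injective ((LinearMap.ker f).subtype.lTensor N) :=
    LinearMap.lTensor_injective_of_exact_of_flat f hf _ (LinearMap.ker f).subtype_injective
      (LinearMap.exact_subtype_ker_map f) N
  have h2 : Function.Injective (ι.rTensor X) :=
    Module.Flat.rTensor_preserves_injective_linearMap ι hι
  have h3 : (ι.rTensor X) ∘ₗ ((LinearMap.ker f).subtype.lTensor N) =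
      ((LinearMap.ker f).subtype.lTensor N') ∘ₗ (ι.rTensor (LinearMap.ker f)) := by
    rw [LinearMap.rTensor_comp_lTensor, LinearMap.lTensor_comp_rTensor]
  have h4 : Function.Injective
      (((LinearMap.ker f).subtype.lTensor N') ∘ₗ (ι.rTensor (LinearMap.ker f))) := by
    rw [← h3]
    exact h2.comp h1
  exact Function.Injective.of_comp h4

variable (C : CochainComplex (ModuleCat.{u} P) ℤ)

/-- the cocycles in degree `k` -/
noncomputable abbrev Zc (k : ℤ) : Submodule P (C.X k) := LinearMap.ker (C.d k (k + 1)).hom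

/-- the differential, with codomain restricted to the cocycles -/
noncomputable def qmap (j : ℤ) : C.X j →ₗ[P] Zc C (j + 1) :=
  LinearMap.codRestrict _ (C.d j (j + 1)).hom (fun x => by
    rw [LinearMap.mem_ker]
    exact congrArg (fun m => m.hom x) (C.d_comp_d j (j + 1) (j + 1 + 1)))

lemma subtype_comp_qmap (j : ℤ) : (Zc C (j + 1)).subtype ∘ₗ qmap C j = (C.d j (j + 1)).hom := rfl

lemma ker_qmap (j : ℤ) : LinearMap.ker (qmap C j) = Zc C j := LinearMap.ker_codRestrict _ _ _

variable (hex : ∀ i j k : ℤ, i + 1 = j → j + 1 = k → Function.Exact (C.d i j).hom (C.d j k).hom)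

include hex in
lemma qmap_surjective (j : ℤ) : Function.Surjective (qmap C j) := by
  rintro ⟨z, hz⟩
  rw [LinearMap.mem_ker] at hz
  obtain ⟨x, hx⟩ := (hex j (j + 1) (j + 1 + 1) rfl rfl z).mp hz
  exact ⟨x, Subtype.ext hx⟩

include hex in
lemma flat_Zc (hflat : ∀ k, Module.Flat P (C.X k)) (hpos : ∀ k : ℤ, 0 < k → IsZero (C.X k)) :
    ∀ (m : ℕ) (k : ℤ), k = 1 - m → Module.Flat P (Zc C k) := by
  intro m
  induction m with
  | zero =>
    intro k hk
    have : Subsingleton (C.X k) := ModuleCat.subsingleton_of_isZero (hpos k (by omega))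
    infer_instance
  | succ m ih =>
    intro k hk
    have h1 : Module.Flat P (Zc C (k + 1)) := ih (k + 1) (by push_cast at hk; omega)
    have h2 := hflat k
    have := flat_ker_of_surjective (qmap C k) (qmap_surjective C hex k)
    rw [ker_qmap] at this
    exact this

include hex in
/-- an exact, bounded above complex of flat modules stays exact after tensoring -/
theorem lTensor_exact_of_flat (hflat : ∀ k, Module.Flat P (C.X k))
    (hpos : ∀ k : ℤ, 0 < k → IsZero (C.X k)) (N : Type u) [AddCommGroup N] [Module P N]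
    (i j k : ℤ) (hij : i + 1 = j) (hjk : j + 1 = k) :
    Function.Exact ((C.d i j).hom.lTensor N) ((C.d j k).hom.lTensor N) := by
  subst hij hjk
  have hZ : ∀ k : ℤ, Module.Flat P (Zc C k) := by
    intro k
    by_cases hk : k ≤ 1
    · exact flat_Zc C hex hflat hpos (1 - k).toNat k (by omega)
    · have : Subsingleton (C.X k) := ModuleCat.subsingleton_of_isZero (hpos k (by omega))
      infer_instance
  have := hZ (i + 1 + 1 + 1)
  -- the inclusion of cocycles stays injective after tensoring
  have hinj : Function.Injective ((Zc C (i + 1 + 1)).subtype.lTensor N) :=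
    LinearMap.lTensor_injective_of_exact_of_flat (qmap C (i + 1 + 1))
      (qmap_surjective C hex (i + 1 + 1)) _ (Zc C (i + 1 + 1)).subtype_injective
      (by
        have := LinearMap.exact_subtype_ker_map (qmap C (i + 1 + 1))
        rwa [ker_qmap] at this) N
  have hex1 : Function.Exact ((Zc C (i + 1)).subtype.lTensor N) ((qmap C (i + 1)).lTensor N) :=
    lTensor_exact N (by
      have := LinearMap.exact_subtype_ker_map (qmap C (i + 1))
      rwa [ker_qmap] at this) (qmap_surjective C hex (i + 1))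
  have hsurj : Function.Surjective ((qmap C i).lTensor N) :=
    LinearMap.lTensor_surjective N (qmap_surjective C hex i)
  have hd1 : (C.d (i + 1) (i + 1 + 1)).hom.lTensor N =
      (Zc C (i + 1 + 1)).subtype.lTensor N ∘ₗ (qmap C (i + 1)).lTensor N := by
    rw [← LinearMap.lTensor_comp, subtype_comp_qmap]
  have hd0 : (C.d i (i + 1)).hom.lTensor N =
      (Zc C (i + 1)).subtype.lTensor N ∘ₗ (qmap C i).lTensor N := by
    rw [← LinearMap.lTensor_comp, subtype_comp_qmap]
  intro y
  rw [hd1, hd0, LinearMap.comp_apply]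
  constructor
  · intro h
    have h' : (qmap C (i + 1)).lTensor N y = 0 := hinj (by rw [h, map_zero])
    obtain ⟨w, hw⟩ := (hex1 y).mp h'
    obtain ⟨v, rfl⟩ := hsurj w
    exact ⟨v, hw⟩
  · rintro ⟨v, rfl⟩
    rw [LinearMap.comp_apply, (hex1 _).mpr ⟨_, rfl⟩, map_zero]

section quot

variable {X : Type u} [AddCommGroup X] [Module P X] (I : Ideal P)

lemma one_tmul_eq_zero_iff (x : X) :
    ((1 : P ⧸ I) ⊗ₜ[P] x = 0) ↔ x ∈ I • (⊤ : Submodule P X) := by
  rw [← (TensorProduct.quotTensorEquivQuotSMul X I).map_eq_zero_iff,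
    TensorProduct.quotTensorEquivQuotSMul_mk_one_tmul, Submodule.Quotient.mk_eq_zero]

lemma exists_one_tmul_eq (w : (P ⧸ I) ⊗[P] X) : ∃ y : X, w = (1 : P ⧸ I) ⊗ₜ[P] y := by
  obtain ⟨y, hy⟩ := Submodule.Quotient.mk_surjective _ (TensorProduct.quotTensorEquivQuotSMul X I w)
  refine ⟨y, (TensorProduct.quotTensorEquivQuotSMul X I).injective ?_⟩
  rw [TensorProduct.quotTensorEquivQuotSMul_mk_one_tmul, hy]

end quot

include hex in
/-- the consequence of `lTensor_exact_of_flat` for `N = P ⧸ I`, in elementwise form -/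
theorem exists_sub_mem_smul_top (hflat : ∀ k, Module.Flat P (C.X k))
    (hpos : ∀ k : ℤ, 0 < k → IsZero (C.X k)) (I : Ideal P)
    (i j k : ℤ) (hij : i + 1 = j) (hjk : j + 1 = k) (z : C.X j)
    (hz : (C.d j k).hom z ∈ I • (⊤ : Submodule P (C.X k))) :
    ∃ y : C.X i, z - (C.d i j).hom y ∈ I • (⊤ : Submodule P (C.X j)) := by
  have hE := lTensor_exact_of_flat C hex hflat hpos (P ⧸ I) i j k hij hjk
  have h0 : (C.d j k).hom.lTensor (P ⧸ I) ((1 : P ⧸ I) ⊗ₜ[P] z) = 0 := by
    rw [LinearMap.lTensor_tmul]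
    exact (one_tmul_eq_zero_iff I _).mpr hz
  obtain ⟨w, hw⟩ := (hE _).mp h0
  obtain ⟨y, rfl⟩ := exists_one_tmul_eq I w
  refine ⟨y, ?_⟩
  rw [← one_tmul_eq_zero_iff, TensorProduct.tmul_sub, ← hw, LinearMap.lTensor_tmul, sub_self]

end Groth.Agent.Lib.Helper16.Wiebe
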