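import Mathlib
import Groth.Agent.Lib.Helper16.Wiebe.ConeExact
import Groth.Agent.Lib.Helper16.Wiebe.FlatExact

/-!
# Comparison of two flat resolutions after reduction modulo an ideal (helper16)
-/

set_option autoImplicit false

namespace Groth.Agent.Lib.Helper16.Wiebe

open CategoryTheory CategoryTheory.Limits CochainComplex HomComplex

universe u

variable {P : Type u} [CommRing P] {K M : CochainComplex (ModuleCat.{u} P) ℤ} (Φ : K ⟶ M)

lemma map_mem_smul_top' {X Y : Type*} [AddCommGroup X] [Module P X] [AddCommGroup Y] [Module P Y]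
    (I : Ideal P) (g : X →ₗ[P] Y) {x : X} (hx : x ∈ I • (⊤ : Submodule P X)) :
    g x ∈ I • (⊤ : Submodule P Y) := by
  have h1 : g x ∈ (I • (⊤ : Submodule P X)).map g := Submodule.mem_map_of_mem hx
  rw [Submodule.map_smul''] at h1
  exact Submodule.smul_mono le_rfl le_top h1

/-- Let `Φ : K → M` be a quasi-isomorphism of bounded above complexes of flat modules, both
resolutions (exact off degree `0`).  If `K` is generated by `tK` in degree `q0`, `M` vanishes in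
degree `q0 - 1`, and `z0 ∈ M^{q0}` is a cocycle modulo `I`, then `z0` is a multiple of `Φ tK`
modulo `I`. -/
theorem core
    (hKflat : ∀ q, Module.Flat P (K.X q)) (hMflat : ∀ q, Module.Flat P (M.X q))
    (hKpos : ∀ q : ℤ, 0 < q → IsZero (K.X q)) (hMpos : ∀ q : ℤ, 0 < q → IsZero (M.X q))
    (hK : ∀ i j k : ℤ, i + 1 = j → j + 1 = k → j ≠ 0 →
      Function.Exact (K.d i j).hom (K.d j k).hom)
    (hM : ∀ i j k : ℤ, i + 1 = j → j + 1 = k → j ≠ 0 →
      Function.Exact (M.d i j).hom (M.d j k).hom)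
    (hinj : ∀ a : K.X 0, (∃ m : M.X (-1), (Φ.f 0).hom a = (M.d (-1) 0).hom m) →
      ∃ a' : K.X (-1), (K.d (-1) 0).hom a' = a)
    (hsurj : ∀ m : M.X 0, ∃ (x : K.X 0) (m' : M.X (-1)),
      m = (Φ.f 0).hom x + (M.d (-1) 0).hom m')
    (I : Ideal P) (qm q0 q1 : ℤ) (hm0 : qm + 1 = q0) (h01 : q0 + 1 = q1)
    (tK : K.X q0) (hKgen : ∀ x : K.X q0, ∃ p : P, x = p • tK) (hMlow : IsZero (M.X qm))
    (z0 : M.X q0) (hz0 : (M.d q0 q1).hom z0 ∈ I • (⊤ : Submodule P (M.X q1))) :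
    ∃ p : P, z0 - p • (Φ.f q0).hom tK ∈ I • (⊤ : Submodule P (M.X q0)) := by
  have hexC := cone_exact Φ hK hM (hKpos 1 one_pos) hinj hsurj
  have hflatC := flat_cone_X Φ hKflat hMflat
  have hposC : ∀ q : ℤ, 0 < q → IsZero ((mappingCone Φ).X q) := fun q hq =>
    isZero_cone_X Φ q (hKpos _ (by omega)) (hMpos _ hq)
  have hz : ((mappingCone Φ).d q0 q1).hom (Inr Φ q0 z0) ∈
      I • (⊤ : Submodule P ((mappingCone Φ).X q1)) := by
    rw [d_Inr]
    exact map_mem_smul_top' I _ hz0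
  obtain ⟨y, hy⟩ := exists_sub_mem_smul_top (mappingCone Φ) hexC hflatC hposC I qm q0 q1 hm0 h01
    (Inr Φ q0 z0) hz
  obtain ⟨p, hp⟩ := hKgen (Fst Φ qm q0 hm0 y)
  refine ⟨p, ?_⟩
  have h1 := map_mem_smul_top' I (Snd Φ q0) hy
  rw [map_sub, Snd_Inr, Snd_d Φ qm q0 hm0 y, hp, map_smul,
    eq_zero_of_isZero' hMlow (Snd Φ qm y), map_zero, add_zero] at h1
  exact h1

end Groth.Agent.Lib.Helper16.Wiebe
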