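import Mathlib
import Groth.Prelude.Def_Koszul
import Groth.Agent.Lib.Helper16.Wiebe.ConeOps

/-!
# Homotopy operators on the (mapping cone model of the) Koszul complex (helper16)

For `l : List A` and a coefficient sequence `w : ℕ → A`, `hop l w` is a degree `-1` cochain on
`Koszul.koszul A l` with `δ (hop l w) = (∑ w_j l_j) • 𝟙` and `hop l w ∘ hop l w = 0`; it is linear
in `w`.
-/

set_option autoImplicit false

namespace Groth.Agent.Lib.Helper16.Wiebe

open CategoryTheory CategoryTheory.Limits CochainComplex HomComplex Koszul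

universe u

variable {A : Type u} [CommRing A]

/-- `∑_{j < l.length} w j * l[j]` -/
def wsum : List A → (ℕ → A) → A
  | [], _ => 0
  | a :: l, w => w 0 * a + wsum l (fun i => w (i + 1))

/-- the homotopy operator `∑ w_j s_j` on the Koszul complex of `l` -/
noncomputable def hop : (l : List A) → (ℕ → A) → Cochain (koszul A l) (koszul A l) (-1)
  | [], _ => 0
  | a :: l, w => extOp a (w 0) (hop l (fun i => w (i + 1)))

lemma hop_nil (w : ℕ → A) : hop ([] : List A) w = 0 := rfl

lemma hop_cons (a : A) (l : List A) (w : ℕ → A) :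
    hop (a :: l) w = extOp a (w 0) (hop l (fun i => w (i + 1))) := rfl

lemma δ_hop : ∀ (l : List A) (w : ℕ → A),
    δ (-1) 0 (hop l w) = Cochain.ofHom (wsum l w • 𝟙 (koszul A l))
  | [], w => by
    rw [hop_nil, δ_zero]
    simp [wsum]
  | a :: l, w => δ_extOp a (w 0) _ _ (δ_hop l _)

lemma hop_comp_hop : ∀ (l : List A) (w : ℕ → A),
    (hop l w).comp (hop l w) (by norm_num : (-1 : ℤ) + (-1) = -2) = 0
  | [], w => by rw [hop_nil, Cochain.zero_comp]
  | a :: l, w => extOp_comp_extOp a (w 0) _ (hop_comp_hop l _)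

lemma hop_add : ∀ (l : List A) (w w' : ℕ → A), hop l (w + w') = hop l w + hop l w'
  | [], w, w' => by simp [hop_nil]
  | a :: l, w, w' => by
    have h := hop_add l (fun i => w (i + 1)) (fun i => w' (i + 1))
    exact (congrArg (extOp a (w 0 + w' 0)) h).trans (extOp_add a _ _ _ _)

lemma hop_smul : ∀ (l : List A) (b : A) (w : ℕ → A), hop l (b • w) = b • hop l w
  | [], b, w => by simp [hop_nil]
  | a :: l, b, w => by
    have h := hop_smul l b (fun i => w (i + 1))
    exact (congrArg (extOp a (b * w 0)) h).trans (extOp_smul a _ _ _)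

lemma hop_zero (l : List A) : hop l (0 : ℕ → A) = 0 := by
  have := hop_smul l 0 (0 : ℕ → A)
  rwa [zero_smul, zero_smul] at this

/-- the `i`-th coordinate sequence -/
def eN (i : ℕ) : ℕ → A := fun j => if j = i then 1 else 0

lemma hop_cons_eN_zero (a : A) (l : List A) : hop (a :: l) (eN 0) = sigma a (koszul A l) := by
  have h : (fun i => (eN 0 : ℕ → A) (i + 1)) = 0 := by
    funext i
    simp [eN]
  rw [hop_cons, h, hop_zero]
  exact extOp_one_zero a

lemma hop_cons_eN_succ (a : A) (l : List A) (i : ℕ) :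
    hop (a :: l) (eN (i + 1)) = lift a (hop l (eN i)) := by
  have h : (fun j => (eN (i + 1) : ℕ → A) (j + 1)) = eN i := by
    funext j
    simp [eN]
  rw [hop_cons, h]
  exact extOp_zero_left a _

end Groth.Agent.Lib.Helper16.Wiebe
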