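import Mathlib

/-!
# Total spaces of cochain complexes of modules and the operators induced by cochains (helper16)

`Tot K = ∀ q, K.X q`; a cochain `z : Cochain K L n` induces `opT z : Tot K →ₗ[A] Tot L`, and
`opT` is compatible with composition (contravariantly in function-composition order), sums and
scalars.
-/

set_option autoImplicit false

namespace Groth.Agent.Lib.Helper16.Wiebe

open CategoryTheory CategoryTheory.Limits CochainComplex HomComplex

universe u

variable {A : Type u} [CommRing A]

/-- the total space (product of all terms) of a cochain complex of modules -/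
abbrev Tot (K : CochainComplex (ModuleCat.{u} A) ℤ) : Type u := ∀ q : ℤ, K.X q

variable {K L N : CochainComplex (ModuleCat.{u} A) ℤ}

/-- the operator on total spaces induced by a cochain -/
noncomputable def opT {n : ℤ} (z : Cochain K L n) : Tot K →ₗ[A] Tot L where
  toFun x q := (z.v (q - n) q (by omega)).hom (x (q - n))
  map_add' x y := by
    funext q
    simp
  map_smul' a x := by
    funext q
    simp

lemma opT_apply {n : ℤ} (z : Cochain K L n) (x : Tot K) (p q : ℤ) (h : p + n = q) :
    opT z x q = (z.v p q h).hom (x p) := by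
  obtain rfl : p = q - n := by omega
  rfl

lemma opT_comp {n m nm : ℤ} (z : Cochain K L n) (z' : Cochain L N m) (h : n + m = nm) :
    opT (z.comp z' h) = opT z' ∘ₗ opT z := by
  ext x r
  rw [LinearMap.comp_apply, opT_apply (z.comp z' h) x (r - m - n) r (by omega),
    Cochain.comp_v z z' h (r - m - n) (r - m) r (by omega) (by omega),
    opT_apply z' _ (r - m) r (by omega), opT_apply z x (r - m - n) (r - m) (by omega)]
  rfl

lemma opT_add {n : ℤ} (z z' : Cochain K L n) : opT (z + z') = opT z + opT z' := by
  ext x r
  simp [opT]

lemma opT_smul {n : ℤ} (a : A) (z : Cochain K L n) : opT (a • z) = a • opT z := by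
  ext x r
  simp [opT]

lemma opT_zero {n : ℤ} : opT (0 : Cochain K L n) = 0 := by
  ext x r
  simp [opT]

lemma opT_neg {n : ℤ} (z : Cochain K L n) : opT (-z) = -opT z := by
  ext x r
  simp [opT]

lemma opT_ofHom_id : opT (Cochain.ofHom (𝟙 K)) = LinearMap.id := by
  ext x r
  rw [opT_apply _ x r r (add_zero r), Cochain.ofHom_v]
  rfl

lemma opT_ofHom_apply (φ : K ⟶ L) (x : Tot K) (q : ℤ) :
    opT (Cochain.ofHom φ) x q = (φ.f q).hom (x q) := by
  rw [opT_apply _ x q q (add_zero q), Cochain.ofHom_v]

lemma opT_single {n : ℤ} (z : Cochain K L n) (p q : ℤ) (h : p + n = q) (x : K.X p) :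
    opT z (Pi.single p x) = Pi.single q ((z.v p q h).hom x) := by
  funext r
  by_cases hr : r = q
  · subst hr
    rw [opT_apply z _ p r h, Pi.single_eq_same, Pi.single_eq_same]
  · rw [Pi.single_eq_of_ne hr, opT_apply z _ (r - n) r (by omega),
      Pi.single_eq_of_ne (by omega), map_zero]

end Groth.Agent.Lib.Helper16.Wiebe
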