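import Mathlib
import Groth.Prelude.Def_Koszul
import Groth.Agent.Lib.Helper16.Wiebe.KosOps
import Groth.Agent.Lib.Helper16.Wiebe.Tot
import Groth.Agent.Lib.Helper16.Wiebe.ConeElt

/-!
# Unit and top elements of the Koszul complex (helper16)
-/

set_option autoImplicit false

namespace Groth.Agent.Lib.Helper16.Wiebe

open CategoryTheory CategoryTheory.Limits CochainComplex HomComplex Koszul

universe u

variable {A : Type u} [CommRing A]

/-- the generator of the degree `0` term of the Koszul complex of the empty sequence -/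
noncomputable def unit0 : (koszul A ([] : List A)).X 0 :=
  (HomologicalComplex.singleObjXSelf (ComplexShape.up ℤ) (0 : ℤ) (ModuleCat.of A A)).inv.hom (1 : A)

/-- the unit (generator in degree `0`), in the total space -/
noncomputable def unitT : (l : List A) → Tot (koszul A l)
  | [] => Pi.single 0 unit0
  | a :: l => opT (Cochain.ofHom (mappingCone.inr (a • 𝟙 (koszul A l)))) (unitT l)

/-- the top element (generator in degree `-l.length`), in the total space -/
noncomputable def topT : (l : List A) → Tot (koszul A l)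
  | [] => Pi.single 0 unit0
  | a :: l => opT (mappingCone.inl (a • 𝟙 (koszul A l))) (topT l)

lemma unitT_cons (a : A) (l : List A) :
    unitT (a :: l) = opT (Cochain.ofHom (mappingCone.inr (a • 𝟙 (koszul A l)))) (unitT l) := rfl

lemma topT_cons (a : A) (l : List A) :
    topT (a :: l) = opT (mappingCone.inl (a • 𝟙 (koszul A l))) (topT l) := rfl

section

variable (a : A) {K : CochainComplex (ModuleCat.{u} A) ℤ}

lemma opT_lift_inr (z : Cochain K K (-1)) (x : Tot K) :
    opT (lift a z) (opT (Cochain.ofHom (mappingCone.inr (a • 𝟙 K))) x) =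
      opT (Cochain.ofHom (mappingCone.inr (a • 𝟙 K))) (opT z x) := by
  have h := congrArg opT (inr_comp_lift a z)
  rw [opT_comp, opT_comp] at h
  exact LinearMap.congr_fun h x

lemma opT_sigma_inr (x : Tot K) :
    opT (sigma a K) (opT (Cochain.ofHom (mappingCone.inr (a • 𝟙 K))) x) =
      opT (mappingCone.inl (a • 𝟙 K)) x := by
  have h := congrArg opT (inr_comp_sigma a K)
  rw [opT_comp] at h
  exact LinearMap.congr_fun h x

lemma prod_opT_lift_inr : ∀ (m : ℕ) (z : Fin m → Cochain K K (-1)) (x : Tot K),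
    (List.ofFn fun i => opT (lift a (z i))).prod
        (opT (Cochain.ofHom (mappingCone.inr (a • 𝟙 K))) x) =
      opT (Cochain.ofHom (mappingCone.inr (a • 𝟙 K))) ((List.ofFn fun i => opT (z i)).prod x)
  | 0, z, x => by simp
  | m + 1, z, x => by
    rw [List.ofFn_succ, List.prod_cons, List.ofFn_succ, List.prod_cons, Module.End.mul_apply,
      Module.End.mul_apply, prod_opT_lift_inr m (fun i => z i.succ) x, opT_lift_inr]

lemma prod_cone_aux (m : ℕ) (z : Fin m → Cochain K K (-1))
    (Z : Fin (m + 1) → Cochain (mappingCone (a • 𝟙 K)) (mappingCone (a • 𝟙 K)) (-1))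
    (h0 : Z 0 = sigma a K) (hs : ∀ i : Fin m, Z i.succ = lift a (z i)) (x : Tot K) :
    (List.ofFn fun i => opT (Z i)).prod (opT (Cochain.ofHom (mappingCone.inr (a • 𝟙 K))) x) =
      opT (mappingCone.inl (a • 𝟙 K)) ((List.ofFn fun i => opT (z i)).prod x) := by
  rw [List.ofFn_succ, List.prod_cons, Module.End.mul_apply, h0]
  have h1 : (fun i : Fin m => opT (Z i.succ)) = fun i : Fin m => opT (lift a (z i)) := by
    funext i
    rw [hs]
  rw [h1, prod_opT_lift_inr, opT_sigma_inr]

end

/-- the product of the basic homotopy operators sends the unit to the top element -/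
lemma prod_hop_eN_unitT : ∀ l : List A,
    (List.ofFn fun i : Fin l.length => opT (hop l (eN (i : ℕ)))).prod (unitT l) = topT l
  | [] => by
    show (List.ofFn fun i : Fin 0 => opT (hop ([] : List A) (eN (i : ℕ)))).prod (unitT []) = topT []
    rw [List.ofFn_zero, List.prod_nil]
    rfl
  | a :: l =>
    (prod_cone_aux a l.length (fun i => hop l (eN (i : ℕ))) (fun i => hop (a :: l) (eN (i : ℕ)))
      (hop_cons_eN_zero a l) (fun i => hop_cons_eN_succ a l i) (unitT l)).trans
      (congrArg (opT (mappingCone.inl (a • 𝟙 (koszul A l)))) (prod_hop_eN_unitT l))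

/-! ### Elementwise structure of the Koszul complex -/

lemma eq_zero_of_isZero {M : ModuleCat.{u} A} (h : IsZero M) (x : M) : x = 0 := by
  have := congrArg (fun m => m.hom x) (h.eq_of_src (𝟙 M) 0)
  simpa using this

lemma smul_id_f_apply (a : A) (K : CochainComplex (ModuleCat.{u} A) ℤ) (p : ℤ) (x : K.X p) :
    ((a • 𝟙 K : K ⟶ K).f p).hom x = a • x := by
  simp

lemma map_mem_smul_top {M N : Type*} [AddCommGroup M] [Module A M] [AddCommGroup N] [Module A N]
    (I : Ideal A) (g : M →ₗ[A] N) {x : M} (hx : x ∈ I • (⊤ : Submodule A M)) :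
    g x ∈ I • (⊤ : Submodule A N) := by
  have h1 : g x ∈ (I • (⊤ : Submodule A M)).map g := Submodule.mem_map_of_mem hx
  rw [Submodule.map_smul''] at h1
  exact Submodule.smul_mono le_rfl le_top h1

/-- structure of a complex near degree `0`: `X 1 = 0`, `X 0` is free on `u`, and the image of
`d : X (-1) → X 0` is `I • u`. -/
structure BotData (K : CochainComplex (ModuleCat.{u} A) ℤ) (I : Ideal A) (u : K.X 0) : Prop where
  pos : ∀ p : ℤ, 0 < p → IsZero (K.X p)
  gen : ∀ x : K.X 0, ∃ b : A, x = b • u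
  inj : ∀ b : A, b • u = 0 → b = 0
  d_mem : ∀ y : K.X (-1), ∃ b ∈ I, (K.d (-1) 0).hom y = b • u
  d_surj : ∀ b ∈ I, ∃ y : K.X (-1), (K.d (-1) 0).hom y = b • u

/-- structure of a complex near its lowest degree `q`: `X p = 0` for `p < q`, `X q` is free on
`t`, and `d t ∈ I • X (q + 1)`. -/
structure TopData (K : CochainComplex (ModuleCat.{u} A) ℤ) (I : Ideal A) (q : ℤ) (t : K.X q) :
    Prop where
  below : ∀ p : ℤ, p < q → IsZero (K.X p)
  gen : ∀ x : K.X q, ∃ b : A, x = b • t
  inj : ∀ b : A, b • t = 0 → b = 0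
  d_mem : ∀ q' : ℤ, q + 1 = q' → (K.d q q').hom t ∈ I • (⊤ : Submodule A (K.X q'))

section coneStep

variable {K : CochainComplex (ModuleCat.{u} A) ℤ} {I : Ideal A} (a : A)

lemma BotData.cone {u : K.X 0} (h : BotData K I u) {I' : Ideal A}
    (hI' : I' = Ideal.span {a} ⊔ I) {u' : (mappingCone (a • 𝟙 K)).X 0}
    (hu' : u' = Inr (a • 𝟙 K) 0 u) : BotData (mappingCone (a • 𝟙 K)) I' u' := by
  subst hI' hu'
  have hz1 : ∀ x : K.X 1, x = 0 := eq_zero_of_isZero (h.pos 1 one_pos)
  refine ⟨?_, ?_, ?_, ?_, ?_⟩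
  · intro p hp
    rw [mappingCone.isZero_X_iff]
    exact ⟨h.pos _ (by omega), h.pos _ hp⟩
  · intro x
    have hd := decomp (a • 𝟙 K) 0 1 (by omega) x
    rw [hz1 (Fst (a • 𝟙 K) 0 1 (by omega) x), map_zero, zero_add] at hd
    obtain ⟨b, hb⟩ := h.gen (Snd (a • 𝟙 K) 0 x)
    refine ⟨b, ?_⟩
    rw [← map_smul, ← hb]
    exact hd.symm
  · intro b hb
    rw [← map_smul] at hb
    have := congrArg (Snd (a • 𝟙 K) 0) hb
    rw [Snd_Inr, map_zero] at this
    exact h.inj b this
  · intro y
    obtain ⟨b0, hb0⟩ := h.gen (Fst (a • 𝟙 K) (-1) 0 (by omega) y)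
    obtain ⟨b1, hb1, hb1'⟩ := h.d_mem (Snd (a • 𝟙 K) (-1) y)
    refine ⟨a * b0 + b1, ?_, ?_⟩
    · exact Ideal.add_mem _ (Ideal.mem_sup_left (Ideal.mul_mem_right _ _
        (Ideal.mem_span_singleton_self a))) (Ideal.mem_sup_right hb1)
    · apply cone_ext (a • 𝟙 K) 0 1 (by omega)
      · exact (hz1 _).trans (hz1 _).symm
      · have h1 := Snd_d (a • 𝟙 K) (-1) 0 (by omega) y
        rw [smul_id_f_apply, hb0, hb1'] at h1
        rw [← map_smul, Snd_Inr]
        refine h1.trans ?_
        rw [add_smul, mul_smul]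
  · intro b hb
    rw [Ideal.mem_span_singleton_sup] at hb
    obtain ⟨b0, b1, hb1, rfl⟩ := hb
    obtain ⟨y1, hy1⟩ := h.d_surj b1 hb1
    refine ⟨Inl (a • 𝟙 K) 0 (-1) (by omega) (b0 • u) + Inr (a • 𝟙 K) (-1) y1, ?_⟩
    rw [map_add, d_Inl (a • 𝟙 K) 0 (-1) 1 (by omega) (by omega), d_Inr, hy1, smul_id_f_apply,
      hz1 ((K.d 0 1).hom (b0 • u)), map_zero, sub_zero, ← map_add, ← map_smul, add_smul,
      mul_smul, smul_comm a b0]

lemma TopData.cone {q : ℤ} {t : K.X q} (h : TopData K I q t) {I' : Ideal A}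
    (hI' : I' = Ideal.span {a} ⊔ I) (p : ℤ) (hp : q + (-1) = p)
    {t' : (mappingCone (a • 𝟙 K)).X p} (ht' : t' = Inl (a • 𝟙 K) q p hp t) :
    TopData (mappingCone (a • 𝟙 K)) I' p t' := by
  subst hI' ht'
  have hzp : ∀ x : K.X p, x = 0 := eq_zero_of_isZero (h.below p (by omega))
  refine ⟨?_, ?_, ?_, ?_⟩
  · intro p' hp'
    rw [mappingCone.isZero_X_iff]
    exact ⟨h.below _ (by omega), h.below _ (by omega)⟩
  · intro x
    have hd := decomp (a • 𝟙 K) p q (by omega) x
    rw [hzp (Snd (a • 𝟙 K) p x), map_zero, add_zero] at hd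
    obtain ⟨b, hb⟩ := h.gen (Fst (a • 𝟙 K) p q (by omega) x)
    refine ⟨b, ?_⟩
    rw [← map_smul, ← hb]
    exact hd.symm
  · intro b hb
    rw [← map_smul] at hb
    have := congrArg (Fst (a • 𝟙 K) p q (by omega)) hb
    rw [Fst_Inl, map_zero] at this
    exact h.inj b this
  · intro q' hq'
    obtain rfl : q' = q := by omega
    rw [d_Inl (a • 𝟙 K) q' p (q' + 1) hp (by omega), smul_id_f_apply, map_smul]
    refine Submodule.sub_mem _ ?_ ?_
    · exact Submodule.smul_mem_smul (Ideal.mem_sup_left (Ideal.mem_span_singleton_self a))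
        Submodule.mem_top
    · exact Submodule.smul_mono_left le_sup_right
        (map_mem_smul_top I (Inl (a • 𝟙 K) (q' + 1) q' (by omega)) (h.d_mem (q' + 1) rfl))

end coneStep

/-! ### the Koszul complex -/

lemma unitT_nil_zero : unitT ([] : List A) 0 = unit0 := Pi.single_eq_same _ _

lemma topT_nil_zero : topT ([] : List A) 0 = unit0 := Pi.single_eq_same _ _

lemma nil_X0_eq (x : (koszul A ([] : List A)).X 0) :
    x = ((HomologicalComplex.singleObjXSelf (ComplexShape.up ℤ) (0 : ℤ)
      (ModuleCat.of A A)).hom.hom x : A) • (unit0 : (koszul A ([] : List A)).X 0) := by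
  let e := (HomologicalComplex.singleObjXSelf (ComplexShape.up ℤ) (0 : ℤ)
      (ModuleCat.of A A)).toLinearEquiv
  show x = (e x : A) • e.symm (1 : A)
  rw [← map_smul, smul_eq_mul, mul_one, e.symm_apply_apply]

lemma nil_smul_unit0 (b : A) (h : b • (unit0 : (koszul A ([] : List A)).X 0) = 0) : b = 0 := by
  let e := (HomologicalComplex.singleObjXSelf (ComplexShape.up ℤ) (0 : ℤ)
      (ModuleCat.of A A)).toLinearEquiv
  have h' : b • e.symm (1 : A) = 0 := h
  rw [← map_smul, smul_eq_mul, mul_one] at h'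
  simpa using congrArg e h'

lemma isZero_nil_X (q : ℤ) (hq : q ≠ 0) : IsZero ((koszul A ([] : List A)).X q) :=
  HomologicalComplex.isZero_single_obj_X _ _ _ _ hq

lemma unitT_cons_zero (a : A) (l : List A) :
    unitT (a :: l) 0 = Inr (a • 𝟙 (koszul A l)) 0 (unitT l 0) := by
  rw [unitT_cons, opT_ofHom_apply]
  rfl

lemma topT_cons_apply (a : A) (l : List A) (p q : ℤ) (h : p + (-1) = q) :
    topT (a :: l) q = Inl (a • 𝟙 (koszul A l)) p q h (topT l p) := by
  rw [topT_cons, opT_apply _ _ p q h]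
  rfl

lemma botData_nil : BotData (koszul A ([] : List A)) (Ideal.ofList []) (unitT [] 0) := by
  rw [unitT_nil_zero]
  refine ⟨fun p hp => isZero_nil_X p (by omega), fun x => ⟨_, nil_X0_eq x⟩, nil_smul_unit0, ?_, ?_⟩
  · intro y
    refine ⟨0, Ideal.zero_mem _, ?_⟩
    rw [zero_smul]
    exact (congrArg _ (eq_zero_of_isZero (isZero_nil_X (-1) (by omega)) y)).trans (map_zero _)
  · intro b hb
    rw [Ideal.ofList_nil, Ideal.mem_bot] at hb
    exact ⟨0, by rw [hb, zero_smul, map_zero]⟩

lemma botData : ∀ l : List A, BotData (koszul A l) (Ideal.ofList l) (unitT l 0)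
  | [] => botData_nil
  | a :: l => (botData l).cone a (Ideal.ofList_cons a l) (unitT_cons_zero a l)

lemma topData_nil : TopData (koszul A ([] : List A)) (Ideal.ofList []) 0 (topT [] 0) := by
  rw [topT_nil_zero]
  refine ⟨fun p hp => isZero_nil_X p (by omega), fun x => ⟨_, nil_X0_eq x⟩, nil_smul_unit0, ?_⟩
  intro q' hq'
  have := eq_zero_of_isZero (isZero_nil_X (A := A) q' (by omega))
    (((koszul A ([] : List A)).d 0 q').hom unit0)
  rw [this]
  exact Submodule.zero_mem _

lemma topData : ∀ (l : List A) (q : ℤ), q = -(l.length : ℤ) →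
    TopData (koszul A l) (Ideal.ofList l) q (topT l q)
  | [], q, hq => by
    obtain rfl : q = 0 := by simpa using hq
    exact topData_nil
  | a :: l, q, hq =>
    (topData l (q + 1) (by simp only [List.length_cons, Nat.cast_add, Nat.cast_one] at hq; omega)).cone
      a (Ideal.ofList_cons a l) q (by omega) (topT_cons_apply a l (q + 1) q (by omega))

end Groth.Agent.Lib.Helper16.Wiebe
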