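import Mathlib
import Groth.Prelude.Def_Koszul
import Groth.Agent.Lib.Helper16.Wiebe.KosTop

/-!
# Chain maps out of the Koszul complex built from null-homotopies (helper16)

Given a complex `M` with degree `-1` cochains `hs i` such that `δ (hs i) = l[i] • 𝟙`, and a map
`u : koszul A [] ⟶ M`, we build a chain map `Phi : koszul A l ⟶ M` extending `u`, and compute it on
the unit and on the top element.
-/

set_option autoImplicit false

namespace Groth.Agent.Lib.Helper16.Wiebe

open CategoryTheory CategoryTheory.Limits CochainComplex HomComplex Koszul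

universe u

variable {A : Type u} [CommRing A]

section coneDesc

variable (a : A) {K M : CochainComplex (ModuleCat.{u} A) ℤ}

/-- extension of a degree `0` cochain `β : K → M` to the cone of `a` on `K`, using the
operator `h0` on `M` -/
noncomputable def coneDesc (β : Cochain K M 0) (h0 : Cochain M M (-1)) :
    Cochain (mappingCone (a • 𝟙 K)) M 0 :=
  mappingCone.descCochain (a • 𝟙 K) (β.comp h0 (zero_add (-1))) β (by norm_num)

lemma δ_coneDesc (β : Cochain K M 0) (h0 : Cochain M M (-1)) (hβ : δ 0 1 β = 0)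
    (hh : δ (-1) 0 h0 = Cochain.ofHom (a • 𝟙 M)) : δ 0 1 (coneDesc a β h0) = 0 := by
  unfold coneDesc
  rw [mappingCone.δ_descCochain _ _ _ _ 1 (zero_add 1), hβ, Cochain.comp_zero, add_zero,
    δ_comp β h0 (zero_add (-1)) 1 0 0 (by norm_num) (zero_add 1) (by norm_num), hβ,
    Cochain.zero_comp, smul_zero, add_zero, hh, ofHom_smul, ofHom_smul]
  simp

lemma opT_coneDesc_inr (β : Cochain K M 0) (h0 : Cochain M M (-1)) (x : Tot K) :
    opT (coneDesc a β h0) (opT (Cochain.ofHom (mappingCone.inr (a • 𝟙 K))) x) = opT β x := by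
  have h := congrArg opT (mappingCone.inr_descCochain (a • 𝟙 K) (β.comp h0 (zero_add (-1))) β
    (by norm_num))
  rw [opT_comp] at h
  exact LinearMap.congr_fun h x

lemma opT_coneDesc_inl (β : Cochain K M 0) (h0 : Cochain M M (-1)) (x : Tot K) :
    opT (coneDesc a β h0) (opT (mappingCone.inl (a • 𝟙 K)) x) = opT h0 (opT β x) := by
  have h := congrArg opT (mappingCone.inl_descCochain (a • 𝟙 K) (β.comp h0 (zero_add (-1))) β
    (by norm_num))
  rw [opT_comp, opT_comp] at h
  exact LinearMap.congr_fun h x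

end coneDesc

variable (M : CochainComplex (ModuleCat.{u} A) ℤ) (u : koszul A ([] : List A) ⟶ M)

/-- the comparison cochain `koszul A l → M` -/
noncomputable def PhiC : (l : List A) → (ℕ → Cochain M M (-1)) → Cochain (koszul A l) M 0
  | [], _ => Cochain.ofHom u
  | a :: l, hs => coneDesc a (PhiC l (fun i => hs (i + 1))) (hs 0)

lemma PhiC_nil (hs : ℕ → Cochain M M (-1)) : PhiC M u [] hs = Cochain.ofHom u := rfl

lemma PhiC_cons (a : A) (l : List A) (hs : ℕ → Cochain M M (-1)) :
    PhiC M u (a :: l) hs = coneDesc a (PhiC M u l (fun i => hs (i + 1))) (hs 0) := rfl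

lemma δ_PhiC : ∀ (l : List A) (hs : ℕ → Cochain M M (-1)),
    (∀ (i : ℕ) (hi : i < l.length), δ (-1) 0 (hs i) = Cochain.ofHom (l[i] • 𝟙 M)) →
    δ 0 1 (PhiC M u l hs) = 0
  | [], hs, _ => by
    rw [PhiC_nil]
    exact δ_ofHom u
  | a :: l, hs, h =>
    δ_coneDesc a _ _ (δ_PhiC l _ (fun i hi => by
      have := h (i + 1) (by simpa using hi)
      simpa using this)) (h 0 (by simp))

lemma opT_PhiC_unitT : ∀ (l : List A) (hs : ℕ → Cochain M M (-1)),
    opT (PhiC M u l hs) (unitT l) = opT (Cochain.ofHom u) (unitT [])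
  | [], _ => rfl
  | a :: l, hs =>
    (opT_coneDesc_inr a (PhiC M u l (fun i => hs (i + 1))) (hs 0) (unitT l)).trans
      (opT_PhiC_unitT l _)

lemma opT_PhiC_topT : ∀ (l : List A) (hs : ℕ → Cochain M M (-1)),
    opT (PhiC M u l hs) (topT l) =
      (List.ofFn fun i : Fin l.length => opT (hs (i : ℕ))).prod (opT (Cochain.ofHom u) (unitT []))
  | [], hs => by
    show opT (Cochain.ofHom u) (unitT []) =
      (List.ofFn fun i : Fin 0 => opT (hs (i : ℕ))).prod (opT (Cochain.ofHom u) (unitT []))
    rw [List.ofFn_zero, List.prod_nil]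
    rfl
  | a :: l, hs => by
    have h1 := opT_coneDesc_inl a (PhiC M u l (fun i => hs (i + 1))) (hs 0) (topT l)
    rw [opT_PhiC_topT l (fun i => hs (i + 1))] at h1
    refine h1.trans ?_
    show _ = (List.ofFn fun i : Fin (l.length + 1) => opT (hs (i : ℕ))).prod _
    rw [List.ofFn_succ, List.prod_cons, Module.End.mul_apply]
    rfl

end Groth.Agent.Lib.Helper16.Wiebe
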