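import Mathlib

/-!
# Alternating maps and determinants (helper16)

`alt_eq_det`: an alternating `n`-form on `R^n` (with values in any module) evaluated on the rows of
a matrix is `det` times its value on the standard basis.  `prod_eq_det`: for a linear family of
square-zero elements `h w` of an algebra, `∏ h (c i) = det c • ∏ h (e i)`.
-/

set_option autoImplicit false

namespace Groth.Agent.Lib.Helper16.Wiebe

open Matrix

lemma alt_eq_det {R N : Type*} [CommRing R] [AddCommGroup N] [Module R N] {n : ℕ}
    (F : (Fin n → R) [⋀^Fin n]→ₗ[R] N) (c : Matrix (Fin n) (Fin n) R) :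
    F (fun i => c i) = c.det • F (fun i => Pi.single i 1) := by
  classical
  let e := Pi.basisFun R (Fin n)
  have he : (fun i => Pi.single i 1 : Fin n → Fin n → R) = e := by
    funext i
    simp [e]
  have key : F = (LinearMap.toSpanSingleton R N (F e)).compAlternatingMap e.det := by
    refine Module.Basis.ext_alternating e ?_
    intro v hv
    have hb : Function.Bijective v := Finite.injective_iff_bijective.mp hv
    let σ : Equiv.Perm (Fin n) := Equiv.ofBijective v hb
    have h1 : (fun i => e (v i)) = (e : Fin n → Fin n → R) ∘ σ := rfl
    rw [h1, LinearMap.compAlternatingMap_apply, AlternatingMap.map_perm, AlternatingMap.map_perm,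
      Module.Basis.det_self, LinearMap.toSpanSingleton_apply]
    simp
  rw [he]
  conv_lhs => rw [key]
  rw [LinearMap.compAlternatingMap_apply, LinearMap.toSpanSingleton_apply, Module.Basis.det_apply]
  congr 1
  rw [← Matrix.det_transpose]
  congr 1

lemma prod_eq_det {R E : Type*} [CommRing R] [Ring E] [Algebra R E] {n : ℕ}
    (h : (Fin n → R) →ₗ[R] E) (hh : ∀ w, h w * h w = 0) (c : Matrix (Fin n) (Fin n) R) :
    (List.ofFn fun i => h (c i)).prod = c.det • (List.ofFn fun i => h (Pi.single i 1)).prod := by
  let L := ExteriorAlgebra.lift R ⟨h, hh⟩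
  let F := L.toLinearMap.compAlternatingMap (ExteriorAlgebra.ιMulti R n)
  have hF : ∀ v : Fin n → Fin n → R, F v = (List.ofFn fun i => h (v i)).prod := by
    intro v
    simp only [F, LinearMap.compAlternatingMap_apply, ExteriorAlgebra.ιMulti_apply,
      AlgHom.toLinearMap_apply, map_list_prod, List.map_ofFn]
    congr 2
    funext i
    simp [L]
  have := alt_eq_det F c
  rw [hF, hF] at this
  exact this

end Groth.Agent.Lib.Helper16.Wiebe
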