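import Mathlib
import Groth.Agent.Lib.Helper94.KoszulBridge
import Groth.Agent.Lib.Helper10.KoszulFlat

/-!
# Variables of a polynomial ring form a Koszul-regular sequence (helper16)
-/

set_option autoImplicit false
universe u

namespace Groth.Agent.Lib.Helper16.Wiebe

open MvPolynomial

theorem ofList_take_ofFn_X (B : Type u) [CommRing B] (n : ℕ) (i : ℕ) :
    Ideal.ofList ((List.ofFn (fun j : Fin n => (X j : MvPolynomial (Fin n) B))).take i) =
      Ideal.span (X '' {j : Fin n | (j : ℕ) < i}) := by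
  show Ideal.span {x | x ∈ (List.ofFn (fun j : Fin n => (X j : MvPolynomial (Fin n) B))).take i} = _
  congr 1
  ext x
  simp only [Set.mem_ofPred_eq, Set.mem_image]
  rw [List.mem_take_iff_getElem]
  constructor
  · rintro ⟨k, hk, rfl⟩
    rw [List.length_ofFn] at hk
    have hkn : k < n := lt_of_lt_of_le hk (min_le_right _ _)
    refine ⟨⟨k, hkn⟩, lt_of_lt_of_le hk (min_le_left _ _), ?_⟩
    rw [List.getElem_ofFn]
  · rintro ⟨j, hj, rfl⟩
    refine ⟨j, ?_, ?_⟩
    · rw [List.length_ofFn]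
      exact lt_min hj j.2
    · rw [List.getElem_ofFn]

theorem isWeaklyRegular_X (B : Type u) [CommRing B] (n : ℕ) :
    RingTheory.Sequence.IsWeaklyRegular (MvPolynomial (Fin n) B)
      (List.ofFn (fun j : Fin n => (X j : MvPolynomial (Fin n) B))) := by
  classical
  refine ⟨fun i hi => ?_⟩
  rw [List.length_ofFn] at hi
  rw [List.getElem_ofFn, ofList_take_ofFn_X, isSMulRegular_quotient_iff_mem_of_smul_mem]
  intro p hp
  rw [smul_eq_mul, Ideal.mul_top] at hp ⊢
  rw [smul_eq_mul, mem_ideal_span_X_image] at hp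
  rw [mem_ideal_span_X_image]
  intro m hm
  have hm' : m + Finsupp.single (⟨i, hi⟩ : Fin n) 1 ∈ (X (⟨i, hi⟩ : Fin n) * p).support := by
    rw [mul_comm, support_mul_X]
    exact Finset.mem_map.mpr ⟨m, hm, rfl⟩
  obtain ⟨j, hj, hne⟩ := hp _ hm'
  refine ⟨j, hj, ?_⟩
  have hji : (⟨i, hi⟩ : Fin n) ≠ j := by
    intro h
    rw [← h] at hj
    exact lt_irrefl i hj
  rwa [Finsupp.add_apply, Finsupp.single_eq_of_ne' hji, add_zero] at hne

theorem isKoszulRegularSeq_X (B : Type u) [CommRing B] (n : ℕ) :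
    LCI.IsKoszulRegularSeq (MvPolynomial (Fin n) B)
      (List.ofFn (fun j : Fin n => (X j : MvPolynomial (Fin n) B))) :=
  Groth.Agent.Lib.Helper94.isKoszulRegularSeq_of_isWeaklyRegular _ _ (isWeaklyRegular_X B n)

end Groth.Agent.Lib.Helper16.Wiebe
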