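import Mathlib
import Groth.Agent.Lib.Helper16.Wiebe.PolyX

/-!
# The diagonal of a quotient of a polynomial ring (helper16)

`P = A[x₁..xₙ]`, `q : P →ₐ[A] B`, `R = P ⊗[A] B`, `g j = x_j ⊗ 1 - 1 ⊗ q x_j`.
* `isKoszulRegularSeq_diag`: the `g j` form a Koszul-regular sequence of `R`.
* `span_diag_eq_ker`: they generate the kernel of `R → B`.
* `productMap_coeff_eq_pderiv`: if `p ⊗ 1 = ∑ j, c j * g j`, then the image of `c k` in `B` is
  `q (∂p/∂x_k)`.
-/

set_option autoImplicit false
universe u

namespace Groth.Agent.Lib.Helper16.Wiebe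

open MvPolynomial TensorProduct

section

variable {A B : Type u} [CommRing A] [CommRing B] [Algebra A B] {n : ℕ}

/-- the diagonal elements `x_j ⊗ 1 - 1 ⊗ b_j`. -/
noncomputable def diagElt (b : Fin n → B) (j : Fin n) : MvPolynomial (Fin n) A ⊗[A] B :=
  (X j : MvPolynomial (Fin n) A) ⊗ₜ[A] (1 : B) - (1 : MvPolynomial (Fin n) A) ⊗ₜ[A] b j

/-- `B[x] → A[x] ⊗ B`, `x_j ↦ g_j`. -/
noncomputable def diagPsi (b : Fin n → B) :
    MvPolynomial (Fin n) B →+* MvPolynomial (Fin n) A ⊗[A] B :=
  MvPolynomial.eval₂Hom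
    ((Algebra.TensorProduct.includeRight :
      B →ₐ[A] MvPolynomial (Fin n) A ⊗[A] B) : B →+* MvPolynomial (Fin n) A ⊗[A] B)
    (diagElt b)

/-- `A[x] ⊗ B → B[x]`, `x_j ⊗ 1 ↦ x_j + b_j`. -/
noncomputable def diagPsi' (b : Fin n → B) :
    MvPolynomial (Fin n) A ⊗[A] B →ₐ[A] MvPolynomial (Fin n) B :=
  Algebra.TensorProduct.productMap
    (MvPolynomial.aeval (fun j => (X j : MvPolynomial (Fin n) B) + C (b j)))
    (IsScalarTower.toAlgHom A B (MvPolynomial (Fin n) B))

theorem diagPsi_C (b : Fin n → B) (x : B) :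
    diagPsi (A := A) b (C x) = (1 : MvPolynomial (Fin n) A) ⊗ₜ[A] x := by
  rw [diagPsi, MvPolynomial.coe_eval₂Hom, MvPolynomial.eval₂_C]
  rfl

theorem diagPsi_X (b : Fin n → B) (j : Fin n) :
    diagPsi (A := A) b (X j) = diagElt b j := by
  rw [diagPsi, MvPolynomial.coe_eval₂Hom, MvPolynomial.eval₂_X]

theorem diagPsi'_tmul (b : Fin n → B) (p : MvPolynomial (Fin n) A) (x : B) :
    diagPsi' b (p ⊗ₜ[A] x) =
      MvPolynomial.aeval (fun j => (X j : MvPolynomial (Fin n) B) + C (b j)) p * C x := by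
  rw [diagPsi', Algebra.TensorProduct.productMap_apply_tmul]
  rfl

theorem diagPsi'_diagPsi (b : Fin n → B) (y : MvPolynomial (Fin n) B) :
    diagPsi' (A := A) b (diagPsi b y) = y := by
  have h : ((diagPsi' (A := A) b : MvPolynomial (Fin n) A ⊗[A] B →+* MvPolynomial (Fin n) B).comp
      (diagPsi b)) = RingHom.id _ := by
    apply MvPolynomial.ringHom_ext
    · intro x
      simp only [RingHom.comp_apply, RingHom.id_apply, RingHom.coe_coe]
      rw [diagPsi_C, diagPsi'_tmul, map_one, one_mul]
    · intro j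
      simp only [RingHom.comp_apply, RingHom.id_apply, RingHom.coe_coe]
      rw [diagPsi_X, diagElt, map_sub, diagPsi'_tmul, diagPsi'_tmul]
      simp
  exact DFunLike.congr_fun h y

theorem diagPsi_diagPsi' (b : Fin n → B) (y : MvPolynomial (Fin n) A ⊗[A] B) :
    diagPsi b (diagPsi' (A := A) b y) = y := by
  have key : ∀ p : MvPolynomial (Fin n) A,
      diagPsi (A := A) b (MvPolynomial.aeval
        (fun j => (X j : MvPolynomial (Fin n) B) + C (b j)) p) = p ⊗ₜ[A] (1 : B) := by
    intro p
    induction p using MvPolynomial.induction_on with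
    | C a =>
      rw [MvPolynomial.aeval_C, IsScalarTower.algebraMap_apply A B (MvPolynomial (Fin n) B),
        MvPolynomial.algebraMap_eq, diagPsi_C]
      have h1 := (Algebra.TensorProduct.includeRight :
        B →ₐ[A] MvPolynomial (Fin n) A ⊗[A] B).commutes a
      have h2 := (Algebra.TensorProduct.includeLeft :
        MvPolynomial (Fin n) A →ₐ[A] MvPolynomial (Fin n) A ⊗[A] B).commutes a
      exact h1.trans h2.symm
    | add p p' h h' => rw [map_add, map_add, h, h', TensorProduct.add_tmul]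
    | mul_X p j h =>
      rw [map_mul, map_mul, h, MvPolynomial.aeval_X, map_add, diagPsi_X, diagPsi_C, diagElt,
        sub_add_cancel, Algebra.TensorProduct.tmul_mul_tmul, mul_one]
  induction y using TensorProduct.induction_on with
  | zero => rw [map_zero, map_zero]
  | add y y' h h' => rw [map_add, map_add, h, h']
  | tmul p x =>
    rw [diagPsi'_tmul, map_mul, key, diagPsi_C, Algebra.TensorProduct.tmul_mul_tmul, mul_one,
      one_mul]

theorem diagPsi_bijective (b : Fin n → B) : Function.Bijective (diagPsi (A := A) b) :=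
  Function.bijective_iff_has_inverse.mpr
    ⟨diagPsi' b, diagPsi'_diagPsi b, diagPsi_diagPsi' b⟩

/-- the diagonal elements form a Koszul-regular sequence. -/
theorem isKoszulRegularSeq_diag (b : Fin n → B) :
    LCI.IsKoszulRegularSeq (MvPolynomial (Fin n) A ⊗[A] B) (List.ofFn (diagElt (A := A) b)) := by
  have h := Groth.Agent.Lib.Helper10.KoszulFlat.isKoszulRegularSeq_map (diagPsi (A := A) b)
    (RingHom.Flat.of_bijective (diagPsi_bijective b)) _ (isKoszulRegularSeq_X B n)
  rw [List.map_ofFn] at h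
  have h2 : (⇑(diagPsi (A := A) b) ∘ fun j : Fin n => (X j : MvPolynomial (Fin n) B)) =
      diagElt b := by
    funext j
    exact diagPsi_X b j
  rwa [h2] at h

end

section

variable {A B : Type u} [CommRing A] [CommRing B] [Algebra A B] {n : ℕ}
  (q : MvPolynomial (Fin n) A →ₐ[A] B)

theorem productMap_diagElt (j : Fin n) :
    Algebra.TensorProduct.productMap q (AlgHom.id A B) (diagElt (fun j => q (X j)) j) = 0 := by
  rw [diagElt, map_sub, Algebra.TensorProduct.productMap_apply_tmul,
    Algebra.TensorProduct.productMap_apply_tmul, map_one, map_one, mul_one, one_mul]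
  exact sub_self _

theorem tmul_one_sub_mem (p : MvPolynomial (Fin n) A) :
    p ⊗ₜ[A] (1 : B) - (1 : MvPolynomial (Fin n) A) ⊗ₜ[A] q p ∈
      Ideal.span (Set.range (diagElt (A := A) (fun j => q (X j)))) := by
  induction p using MvPolynomial.induction_on with
  | C a =>
    have h1 := (Algebra.TensorProduct.includeRight :
      B →ₐ[A] MvPolynomial (Fin n) A ⊗[A] B).commutes a
    have h2 := (Algebra.TensorProduct.includeLeft :
      MvPolynomial (Fin n) A →ₐ[A] MvPolynomial (Fin n) A ⊗[A] B).commutes a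
    have h3 : q (C a) = algebraMap A B a := q.commutes a
    have : (C a : MvPolynomial (Fin n) A) ⊗ₜ[A] (1 : B) -
        (1 : MvPolynomial (Fin n) A) ⊗ₜ[A] q (C a) = 0 := by
      rw [h3, sub_eq_zero]
      exact h2.trans h1.symm
    rw [this]
    exact Submodule.zero_mem _
  | add p p' h h' =>
    have : (p + p') ⊗ₜ[A] (1 : B) - (1 : MvPolynomial (Fin n) A) ⊗ₜ[A] q (p + p') =
        (p ⊗ₜ[A] (1 : B) - (1 : MvPolynomial (Fin n) A) ⊗ₜ[A] q p) +
        (p' ⊗ₜ[A] (1 : B) - (1 : MvPolynomial (Fin n) A) ⊗ₜ[A] q p') := by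
      rw [map_add, TensorProduct.add_tmul, TensorProduct.tmul_add]
      abel
    rw [this]
    exact Submodule.add_mem _ h h'
  | mul_X p j h =>
    have : (p * X j) ⊗ₜ[A] (1 : B) - (1 : MvPolynomial (Fin n) A) ⊗ₜ[A] q (p * X j) =
        (p ⊗ₜ[A] (1 : B)) * diagElt (fun j => q (X j)) j +
        ((1 : MvPolynomial (Fin n) A) ⊗ₜ[A] q (X j)) *
          (p ⊗ₜ[A] (1 : B) - (1 : MvPolynomial (Fin n) A) ⊗ₜ[A] q p) := by
      rw [diagElt, map_mul, mul_sub, mul_sub, Algebra.TensorProduct.tmul_mul_tmul,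
        Algebra.TensorProduct.tmul_mul_tmul, Algebra.TensorProduct.tmul_mul_tmul,
        Algebra.TensorProduct.tmul_mul_tmul]
      simp only [mul_one, one_mul]
      rw [mul_comm (q (X j)) (q p)]
      abel
    rw [this]
    exact Submodule.add_mem _
      (Ideal.mul_mem_left _ _ (Ideal.subset_span ⟨j, rfl⟩)) (Ideal.mul_mem_left _ _ h)

theorem sub_productMap_mem (y : MvPolynomial (Fin n) A ⊗[A] B) :
    y - (1 : MvPolynomial (Fin n) A) ⊗ₜ[A]
        Algebra.TensorProduct.productMap q (AlgHom.id A B) y ∈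
      Ideal.span (Set.range (diagElt (A := A) (fun j => q (X j)))) := by
  induction y using TensorProduct.induction_on with
  | zero =>
    rw [map_zero, TensorProduct.tmul_zero, sub_zero]
    exact Submodule.zero_mem _
  | add y y' h h' =>
    rw [map_add, TensorProduct.tmul_add, add_sub_add_comm]
    exact Submodule.add_mem _ h h'
  | tmul p x =>
    rw [Algebra.TensorProduct.productMap_apply_tmul]
    have : p ⊗ₜ[A] x - (1 : MvPolynomial (Fin n) A) ⊗ₜ[A] (q p * (AlgHom.id A B) x) =
        ((1 : MvPolynomial (Fin n) A) ⊗ₜ[A] x) *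
          (p ⊗ₜ[A] (1 : B) - (1 : MvPolynomial (Fin n) A) ⊗ₜ[A] q p) := by
      rw [mul_sub, Algebra.TensorProduct.tmul_mul_tmul, Algebra.TensorProduct.tmul_mul_tmul]
      simp only [mul_one, one_mul, AlgHom.id_apply]
      rw [mul_comm x (q p)]
    rw [this]
    exact Ideal.mul_mem_left _ _ (tmul_one_sub_mem q p)

/-- the diagonal elements generate the kernel of `P ⊗ B → B`. -/
theorem span_diag_eq_ker :
    Ideal.span (Set.range (diagElt (A := A) (fun j => q (X j)))) =
      RingHom.ker (Algebra.TensorProduct.productMap q (AlgHom.id A B)) := by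
  apply le_antisymm
  · rw [Ideal.span_le]
    rintro _ ⟨j, rfl⟩
    exact productMap_diagElt q j
  · intro y hy
    rw [RingHom.mem_ker] at hy
    have h := sub_productMap_mem q y
    rwa [hy, TensorProduct.tmul_zero, sub_zero] at h

/-- `∂/∂x_k ⊗ id` on `P ⊗ B`. -/
noncomputable def diagD (k : Fin n) :
    MvPolynomial (Fin n) A ⊗[A] B →ₗ[A] MvPolynomial (Fin n) A ⊗[A] B :=
  LinearMap.rTensor B ((MvPolynomial.pderiv k : Derivation A _ _) :
    MvPolynomial (Fin n) A →ₗ[A] MvPolynomial (Fin n) A)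

theorem diagD_tmul (k : Fin n) (p : MvPolynomial (Fin n) A) (x : B) :
    diagD k (p ⊗ₜ[A] x) = (MvPolynomial.pderiv k p) ⊗ₜ[A] x := by
  rw [diagD, LinearMap.rTensor_tmul]
  rfl

theorem productMap_diagD_mul_diagElt (k j : Fin n) (y : MvPolynomial (Fin n) A ⊗[A] B) :
    Algebra.TensorProduct.productMap q (AlgHom.id A B)
        (diagD k (y * diagElt (fun j => q (X j)) j)) =
      if j = k then Algebra.TensorProduct.productMap q (AlgHom.id A B) y else 0 := by
  classical
  induction y using TensorProduct.induction_on with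
  | zero => simp
  | add y y' h h' =>
    rw [add_mul, map_add, map_add, h, h', map_add]
    split_ifs <;> simp
  | tmul p x =>
    rw [diagElt, mul_sub, Algebra.TensorProduct.tmul_mul_tmul, Algebra.TensorProduct.tmul_mul_tmul,
      map_sub, diagD_tmul, diagD_tmul, map_sub, Algebra.TensorProduct.productMap_apply_tmul,
      Algebra.TensorProduct.productMap_apply_tmul, Algebra.TensorProduct.productMap_apply_tmul]
    simp only [mul_one, AlgHom.id_apply, Derivation.leibniz, MvPolynomial.pderiv_X, smul_eq_mul,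
      map_add, map_mul]
    by_cases hjk : j = k
    · subst hjk
      simp only [Pi.single_eq_same, map_one, mul_one, if_true]
      ring
    · rw [if_neg hjk, Pi.single_eq_of_ne hjk]
      simp only [map_zero, mul_zero, zero_add]
      ring

/-- **Jacobian identification**: if `p ⊗ 1 = ∑ j, c j * g j`, the image of `c k` in `B` is the
image of `∂p/∂x_k`. -/
theorem productMap_coeff_eq_pderiv (p : MvPolynomial (Fin n) A)
    (c : Fin n → MvPolynomial (Fin n) A ⊗[A] B)
    (hc : p ⊗ₜ[A] (1 : B) = ∑ j, c j * diagElt (fun j => q (X j)) j) (k : Fin n) :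
    Algebra.TensorProduct.productMap q (AlgHom.id A B) (c k) = q (MvPolynomial.pderiv k p) := by
  classical
  have h : Algebra.TensorProduct.productMap q (AlgHom.id A B) (diagD k (p ⊗ₜ[A] (1 : B))) =
      Algebra.TensorProduct.productMap q (AlgHom.id A B)
        (diagD k (∑ j, c j * diagElt (fun j => q (X j)) j)) := by
    rw [hc]
  rw [diagD_tmul, Algebra.TensorProduct.productMap_apply_tmul, map_one, mul_one, map_sum,
    map_sum] at h
  rw [h]
  simp_rw [productMap_diagD_mul_diagElt]
  rw [Finset.sum_ite_eq' Finset.univ k]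
  simp

end

end Groth.Agent.Lib.Helper16.Wiebe
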