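import Mathlib
import Groth.Prelude.Def_Koszul
import Groth.Prelude.Def_LCI2
import Groth.Agent.Lib.Helper16.Wiebe.Desc
import Groth.Agent.Lib.Helper16.Wiebe.Det
import Groth.Agent.Lib.Helper16.Wiebe.Core

/-!
# The relative Wiebe lemma (helper16)
-/

set_option autoImplicit false

namespace Groth.Agent.Lib.Helper16.Wiebe

open CategoryTheory CategoryTheory.Limits CochainComplex HomComplex Koszul

universe u

section restrict

variable (P : Type u) {R : Type u} [CommRing P] [CommRing R] [Algebra P R]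

/-- restriction of scalars from `R` to `P` -/
noncomputable abbrev Fr : ModuleCat.{u} R ⥤ ModuleCat.{u} P :=
  ModuleCat.restrictScalars.{u} (algebraMap P R)

/-- restriction of scalars on cochain complexes -/
noncomputable abbrev Rc :
    CochainComplex (ModuleCat.{u} R) ℤ ⥤ CochainComplex (ModuleCat.{u} P) ℤ :=
  (Fr P).mapHomologicalComplex (ComplexShape.up ℤ)

lemma Rc_map_smul_id (K : CochainComplex (ModuleCat.{u} R) ℤ) (a : P) :
    (Rc P).map (algebraMap P R a • 𝟙 K) = a • 𝟙 ((Rc P).obj K) := by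
  apply HomologicalComplex.hom_ext
  intro q
  apply ModuleCat.hom_ext
  apply LinearMap.ext
  intro x
  simp
  rfl

variable {P}

lemma opT_map {K L : CochainComplex (ModuleCat.{u} R) ℤ} {n : ℤ} (z : Cochain K L n)
    (x : Tot K) : (opT (z.map (Fr P)) (show Tot ((Rc P).obj K) from x) : Tot ((Rc P).obj L)) =
      (show Tot ((Rc P).obj L) from opT z x) := rfl

lemma prod_opT_map {K : CochainComplex (ModuleCat.{u} R) ℤ} :
    ∀ (m : ℕ) (z : Fin m → Cochain K K (-1)) (x : Tot K),
      ((List.ofFn fun i => opT ((z i).map (Fr P))).prod (show Tot ((Rc P).obj K) from x) :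
        Tot ((Rc P).obj K)) = (show Tot ((Rc P).obj K) from (List.ofFn fun i => opT (z i)).prod x)
  | 0, z, x => by simp
  | m + 1, z, x => by
    rw [List.ofFn_succ, List.prod_cons, List.ofFn_succ, List.prod_cons, Module.End.mul_apply,
      Module.End.mul_apply, prod_opT_map m (fun i => z i.succ) x]
    rfl

end restrict

section modules

variable {P R : Type u} [CommRing P] [CommRing R] [Algebra P R]

instance isScalarTower_Fr (X : ModuleCat.{u} R) : IsScalarTower P R ((Fr P).obj X) :=
  ⟨fun p s x => by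
    show (p • s) • (show X from x) = algebraMap P R p • (s • (show X from x))
    rw [Algebra.smul_def, mul_smul]⟩

lemma flat_Fr [Module.Flat P R] (X : ModuleCat.{u} R) (h : Module.Flat R X) :
    Module.Flat P ((Fr P).obj X) := by
  have : Module.Flat R ((Fr P).obj X) := h
  exact Module.Flat.trans P R _

lemma smul_mem_restrict (X : ModuleCat.{u} R) (I : Ideal P) (ρ : R)
    (hρ : ρ ∈ I.map (algebraMap P R)) :
    ∀ x : X, (show (Fr P).obj X from ρ • x) ∈ I • (⊤ : Submodule P ((Fr P).obj X)) := by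
  unfold Ideal.map at hρ
  induction hρ using Submodule.span_induction with
  | mem ρ h =>
    obtain ⟨a, ha, rfl⟩ := h
    intro x
    exact Submodule.smul_mem_smul ha (Submodule.mem_top (x := (show (Fr P).obj X from x)))
  | zero =>
    intro x
    rw [zero_smul]
    exact Submodule.zero_mem _
  | add ρ ρ' _ _ h1 h2 =>
    intro x
    rw [add_smul]
    exact Submodule.add_mem _ (h1 x) (h2 x)
  | smul s ρ _ h1 =>
    intro x
    rw [smul_eq_mul, mul_comm, mul_smul]
    exact h1 (s • x)

lemma smul_mem_of_forall_mul_mem (X : ModuleCat.{u} R) (J : Ideal R) (I : Ideal P) (r : R)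
    (hr : ∀ γ ∈ J, r * γ ∈ I.map (algebraMap P R)) (x : X)
    (hx : x ∈ J • (⊤ : Submodule R X)) :
    (show (Fr P).obj X from r • x) ∈ I • (⊤ : Submodule P ((Fr P).obj X)) := by
  refine Submodule.smul_induction_on (p := fun x : X => (show (Fr P).obj X from r • x) ∈
    I • (⊤ : Submodule P ((Fr P).obj X))) hx ?_ ?_
  · intro γ hγ m _
    show (show (Fr P).obj X from r • γ • m) ∈ _
    rw [← mul_smul]
    exact smul_mem_restrict X I _ (hr γ hγ) m
  · intro x y hx hy
    show (show (Fr P).obj X from r • (x + y)) ∈ _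
    rw [smul_add]
    exact Submodule.add_mem _ hx hy

lemma mem_map_of_smul_mem (X : ModuleCat.{u} R) (t : X) (hgen : ∀ x : X, ∃ b : R, x = b • t)
    (hinj : ∀ b : R, b • t = 0 → b = 0) (I : Ideal P) (ρ : R)
    (h : (show (Fr P).obj X from ρ • t) ∈ I • (⊤ : Submodule P ((Fr P).obj X))) :
    ρ ∈ I.map (algebraMap P R) := by
  let S : Submodule P ((Fr P).obj X) :=
    { carrier := {x | ∃ ρ' ∈ I.map (algebraMap P R), x = (show (Fr P).obj X from ρ' • t)}
      zero_mem' := ⟨0, Ideal.zero_mem _, (zero_smul R t).symm⟩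
      add_mem' := by
        rintro _ _ ⟨ρ1, h1, rfl⟩ ⟨ρ2, h2, rfl⟩
        exact ⟨ρ1 + ρ2, Ideal.add_mem _ h1 h2, (add_smul ρ1 ρ2 t).symm⟩
      smul_mem' := by
        rintro p _ ⟨ρ1, h1, rfl⟩
        exact ⟨algebraMap P R p * ρ1, Ideal.mul_mem_left _ _ h1, (mul_smul _ ρ1 t).symm⟩ }
  have hle : I • (⊤ : Submodule P ((Fr P).obj X)) ≤ S := by
    rw [Submodule.smul_le]
    intro a ha x _
    obtain ⟨b, hb⟩ := hgen (show X from x)
    refine ⟨algebraMap P R a * b, Ideal.mul_mem_right _ _ (Ideal.mem_map_of_mem _ ha), ?_⟩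
    show algebraMap P R a • (show X from x) = (algebraMap P R a * b) • t
    rw [hb, mul_smul]
  obtain ⟨ρ', hρ', h'⟩ := hle h
  have h'' : ρ • t = ρ' • t := h'
  have : ρ - ρ' = 0 := hinj _ (by rw [sub_smul, h'', sub_self])
  rw [sub_eq_zero.mp this]
  exact hρ'

end modules

section koszulFacts

variable {A : Type u} [CommRing A]

/-- extension by zero of a finite coefficient vector -/
def extN {n : ℕ} (w : Fin n → A) : ℕ → A := fun j => if h : j < n then w ⟨j, h⟩ else 0

lemma extN_add {n : ℕ} (w w' : Fin n → A) : extN (w + w') = extN w + extN w' := by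
  funext j
  simp only [extN, Pi.add_apply]
  split_ifs <;> simp

lemma extN_smul {n : ℕ} (b : A) (w : Fin n → A) : extN (b • w) = b • extN w := by
  funext j
  simp only [extN, Pi.smul_apply]
  split_ifs <;> simp

lemma extN_single {n : ℕ} (i : Fin n) : extN (Pi.single i (1 : A)) = eN (i : ℕ) := by
  funext j
  simp only [extN, eN]
  by_cases hj : j < n
  · rw [dif_pos hj, Pi.single_apply]
    simp [Fin.ext_iff]
  · rw [dif_neg hj, if_neg]
    intro h
    exact hj (h ▸ i.2)

lemma wsum_extN : ∀ (l : List A) (w : Fin l.length → A), wsum l (extN w) = ∑ j, w j * l[j]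
  | [], w => by simp [wsum]
  | a :: l, w => by
    have h1 : (fun i => extN w (i + 1)) = extN (fun j : Fin l.length => w j.succ) := by
      funext i
      simp only [extN, List.length_cons, Nat.add_lt_add_iff_right]
      rfl
    show extN w 0 * a + wsum l (fun i => extN w (i + 1)) = _
    rw [h1, wsum_extN l]
    refine Eq.trans ?_ (Fin.sum_univ_succ (n := l.length) _).symm
    simp [extN]

/-- the operator-valued linear map `w ↦ opT (hop l w)` -/
noncomputable def hopLin (l : List A) :
    (Fin l.length → A) →ₗ[A] Module.End A (Tot (koszul A l)) where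
  toFun w := opT (hop l (extN w))
  map_add' w w' := by rw [extN_add, hop_add, opT_add]
  map_smul' b w := by rw [extN_smul, hop_smul, opT_smul]; rfl

lemma hopLin_mul_self (l : List A) (w : Fin l.length → A) : hopLin l w * hopLin l w = 0 := by
  show opT (hop l (extN w)) ∘ₗ opT (hop l (extN w)) = 0
  rw [← opT_comp _ _ (by norm_num : (-1 : ℤ) + (-1) = -2), hop_comp_hop, opT_zero]

/-- the product of the homotopy operators attached to the rows of a matrix sends the unit to
`det` times the top element -/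
lemma prod_hop_det (l : List A) (C : Matrix (Fin l.length) (Fin l.length) A) :
    (List.ofFn fun i : Fin l.length => opT (hop l (extN (C i)))).prod (unitT l) =
      C.det • topT l := by
  have h := prod_eq_det (hopLin l) (hopLin_mul_self l) C
  have h1 : (fun i : Fin l.length => hopLin l (Pi.single i 1)) =
      fun i : Fin l.length => opT (hop l (eN (i : ℕ))) := by
    funext i
    show opT (hop l (extN (Pi.single i 1))) = _
    rw [extN_single]
  rw [h1] at h
  have h2 := congrArg (fun E : Module.End A (Tot (koszul A l)) => E (unitT l)) h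
  simp only [LinearMap.smul_apply] at h2
  rw [prod_hop_eN_unitT] at h2
  exact h2

lemma unitT_eq_single : ∀ l : List A, unitT l = Pi.single 0 (unitT l 0)
  | [] => by
    rw [unitT_nil_zero]
    rfl
  | a :: l => by
    have h := unitT_eq_single l
    have h1 : unitT (a :: l) = opT (Cochain.ofHom (mappingCone.inr (a • 𝟙 (koszul A l))))
        (Pi.single 0 (unitT l 0)) := by
      rw [← h]
      rfl
    rw [opT_single _ 0 0 (add_zero 0)] at h1
    refine h1.trans ?_
    congr 1

/-- the map out of the Koszul complex of the empty sequence determined by an element of `M^0` -/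
noncomputable def mkU (M : CochainComplex (ModuleCat.{u} A) ℤ) (m0 : M.X 0)
    (h1 : IsZero (M.X 1)) : koszul A ([] : List A) ⟶ M :=
  HomologicalComplex.mkHomFromSingle (ModuleCat.ofHom (LinearMap.toSpanSingleton A (M.X 0) m0))
    (by
      intro k hk
      obtain rfl : k = 1 := by simpa using hk.symm
      exact h1.eq_of_tgt _ _)

lemma mkU_unit0 (M : CochainComplex (ModuleCat.{u} A) ℤ) (m0 : M.X 0) (h1 : IsZero (M.X 1)) :
    ((mkU M m0 h1).f 0).hom unit0 = m0 := by
  unfold mkU unit0
  rw [HomologicalComplex.mkHomFromSingle_f]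
  set e := HomologicalComplex.singleObjXSelf (ComplexShape.up ℤ) (0 : ℤ) (ModuleCat.of A A)
  have h : e.hom.hom (e.inv.hom (1 : A)) = 1 := by
    rw [← LinearMap.comp_apply, ← ModuleCat.hom_comp, e.inv_hom_id]
    rfl
  show (LinearMap.toSpanSingleton A (M.X 0) m0) (e.hom.hom (e.inv.hom (1 : A))) = m0
  rw [h, LinearMap.toSpanSingleton_apply, one_smul]

lemma flat_koszul_X : ∀ (l : List A) (q : ℤ), Module.Flat A ((koszul A l).X q)
  | [], q => by
    by_cases hq : q = 0
    · subst hq
      exact Module.Flat.of_linearEquiv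
        (HomologicalComplex.singleObjXSelf (ComplexShape.up ℤ) 0 (ModuleCat.of A A)).toLinearEquiv
    · have : Subsingleton ((koszul A ([] : List A)).X q) :=
        ModuleCat.subsingleton_of_isZero (isZero_nil_X q hq)
      infer_instance
  | a :: l, q => flat_cone_X (a • 𝟙 (koszul A l)) (flat_koszul_X l) (flat_koszul_X l) q

lemma exact_of_isKoszulRegularSeq (l : List A) (h : LCI.IsKoszulRegularSeq A l) (i j k : ℤ)
    (hij : i + 1 = j) (hjk : j + 1 = k) (hj : j ≠ 0) :
    Function.Exact ((koszul A l).d i j).hom ((koszul A l).d j k).hom := by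
  have hex : ((koszul A l).sc' i j k).Exact := by
    rw [← HomologicalComplex.exactAt_iff' (koszul A l) i j k (by simp; omega) (by simp [hjk]),
      HomologicalComplex.exactAt_iff_isZero_homology]
    exact h j hj
  rw [ShortComplex.moduleCat_exact_iff_range_eq_ker] at hex
  rw [LinearMap.exact_iff]
  exact hex.symm

end koszulFacts

section main

variable {P R : Type u} [CommRing P] [CommRing R] [Algebra P R] [Module.Flat P R]

/-- **Relative Wiebe lemma** (list version). -/
theorem relWiebe_list (fl : List P) (gl : List R) (hlen : fl.length = gl.length)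
    (hf : LCI.IsKoszulRegularSeq P fl) (hg : LCI.IsKoszulRegularSeq R gl)
    (C : Matrix (Fin gl.length) (Fin gl.length) R)
    (hC : ∀ i : Fin gl.length,
      algebraMap P R (fl[(i : ℕ)]'(lt_of_lt_of_eq i.2 hlen.symm)) = ∑ j, C i j * gl[j])
    (hinj : ∀ p : P, algebraMap P R p ∈ Ideal.ofList gl → p ∈ Ideal.ofList fl)
    (hsurj : ∀ r : R, ∃ p : P, r - algebraMap P R p ∈ Ideal.ofList gl)
    (r : R) (hr : ∀ γ ∈ Ideal.ofList gl, r * γ ∈ (Ideal.ofList fl).map (algebraMap P R)) :
    ∃ p : P, r - algebraMap P R p * C.det ∈ (Ideal.ofList fl).map (algebraMap P R) := by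
  classical
  let M' := koszul R gl
  let M := (Rc P).obj M'
  let hs : ℕ → Cochain M M (-1) := fun i =>
    if h : i < gl.length then (hop gl (extN (C ⟨i, h⟩))).map (Fr P) else 0
  have hM1 : IsZero (M.X 1) := (Fr P).map_isZero ((botData gl).pos 1 one_pos)
  let u := mkU M (unitT gl 0 : M.X 0) hM1
  have hδhs : ∀ (i : ℕ) (hi : i < fl.length),
      δ (-1) 0 (hs i) = Cochain.ofHom (fl[i] • 𝟙 M) := by
    intro i hi
    have hi' : i < gl.length := hlen ▸ hi
    simp only [hs, dif_pos hi']
    rw [δ_map, δ_hop, wsum_extN, ← hC ⟨i, hi'⟩, Cochain.map_ofHom, Rc_map_smul_id]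
  have hδ := δ_PhiC M u fl hs hδhs
  let Φ : koszul P fl ⟶ M := Cocycle.homOf (Cocycle.mk (PhiC M u fl hs) 1 (zero_add 1) hδ)
  have hΦ : Cochain.ofHom Φ = PhiC M u fl hs := Cocycle.cochain_ofHom_homOf_eq_coe _
  have hΦT : ∀ (x : Tot (koszul P fl)) (q : ℤ),
      (Φ.f q).hom (x q) = opT (PhiC M u fl hs) x q := by
    intro x q
    rw [← hΦ, opT_ofHom_apply]
  have hu0 : opT (Cochain.ofHom u) (unitT ([] : List P)) = (unitT gl : Tot M) := by
    have h1 : opT (Cochain.ofHom u) (unitT ([] : List P)) =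
        Pi.single 0 (((Cochain.ofHom u).v 0 0 (add_zero 0)).hom unit0) :=
      opT_single (Cochain.ofHom u) 0 0 (add_zero 0) unit0
    rw [Cochain.ofHom_v, mkU_unit0] at h1
    exact h1.trans (unitT_eq_single gl).symm
  -- the value of `Φ` on the unit
  have hΦunit : (Φ.f 0).hom (unitT fl 0) = unitT gl 0 := by
    rw [hΦT, opT_PhiC_unitT, hu0]
  -- the value of `Φ` on the top element
  have htop : opT (PhiC M u fl hs) (topT fl) = (C.det • topT gl : Tot M) := by
    rw [opT_PhiC_topT, hu0, List.ofFn_congr hlen]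
    have h1 : (fun i : Fin gl.length => opT (hs ((Fin.cast hlen.symm i : Fin fl.length) : ℕ))) =
        fun i : Fin gl.length => opT ((hop gl (extN (C i))).map (Fr P)) := by
      funext i
      simp only [hs, Fin.val_cast, dif_pos i.2]
    rw [h1, prod_opT_map, prod_hop_det]
  set q0 : ℤ := -(gl.length : ℤ) with hq0
  have hΦtop : (Φ.f q0).hom (topT fl q0) = C.det • topT gl q0 := by
    rw [hΦT, htop]
    rfl
  have hTf := topData fl q0 (by rw [hq0, hlen])
  have hTg := topData gl q0 rfl
  have hBf := botData fl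
  have hBg := botData gl
  -- `P`-scalar multiplication on `M` is `R`-scalar multiplication through `algebraMap`
  have hΦ0 : ∀ p : P, (Φ.f 0).hom (p • unitT fl 0) = algebraMap P R p • unitT gl 0 := by
    intro p
    rw [map_smul, hΦunit]
    rfl
  have hinj' : ∀ a : (koszul P fl).X 0,
      (∃ m : M.X (-1), (Φ.f 0).hom a = (M.d (-1) 0).hom m) →
      ∃ a' : (koszul P fl).X (-1), ((koszul P fl).d (-1) 0).hom a' = a := by
    intro a
    obtain ⟨p, rfl⟩ := hBf.gen a
    rintro ⟨m, hm⟩
    obtain ⟨γ, hγ, hγ'⟩ := hBg.d_mem m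
    have h1 : algebraMap P R p • unitT gl 0 = γ • unitT gl 0 :=
      ((hΦ0 p).symm.trans hm).trans hγ'
    have h2 : algebraMap P R p - γ = 0 :=
      hBg.inj _ ((sub_smul _ _ _).trans (sub_eq_zero.mpr h1))
    rw [sub_eq_zero] at h2
    exact hBf.d_surj p (hinj p (h2 ▸ hγ))
  have hsurj' : ∀ m : M.X 0, ∃ (x : (koszul P fl).X 0) (m' : M.X (-1)),
      m = (Φ.f 0).hom x + (M.d (-1) 0).hom m' := by
    intro m
    obtain ⟨ρ, hρ⟩ := hBg.gen m
    obtain ⟨p, hp⟩ := hsurj ρ
    obtain ⟨m', hm'⟩ := hBg.d_surj _ hp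
    refine ⟨p • unitT fl 0, m', ?_⟩
    rw [hΦ0]
    refine hρ.trans ?_
    have h3 : ρ • unitT gl 0 = algebraMap P R p • unitT gl 0 + (M'.d (-1) 0).hom m' := by
      rw [hm', ← add_smul, add_sub_cancel]
    exact h3
  -- the element `r • top`
  let zr : M'.X q0 := r • topT gl q0
  have hz0 : (M.d q0 (q0 + 1)).hom zr ∈
      Ideal.ofList fl • (⊤ : Submodule P (M.X (q0 + 1))) := by
    have h1 : (M'.d q0 (q0 + 1)).hom zr = r • (M'.d q0 (q0 + 1)).hom (topT gl q0) :=
      map_smul (M'.d q0 (q0 + 1)).hom r (topT gl q0)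
    have h2 := smul_mem_of_forall_mul_mem (M'.X (q0 + 1)) (Ideal.ofList gl) (Ideal.ofList fl) r hr
      _ (hTg.d_mem (q0 + 1) rfl)
    rw [← h1] at h2
    exact h2
  obtain ⟨p, hp⟩ := core Φ (flat_koszul_X fl) (fun q => flat_Fr _ (flat_koszul_X gl q))
    hBf.pos (fun q hq => (Fr P).map_isZero (hBg.pos q hq))
    (exact_of_isKoszulRegularSeq fl hf)
    (fun i j k hij hjk hj => exact_of_isKoszulRegularSeq gl hg i j k hij hjk hj)
    hinj' hsurj' (Ideal.ofList fl) (q0 - 1) q0 (q0 + 1) (by ring) rfl (topT fl q0) hTf.gen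
    ((Fr P).map_isZero (hTg.below _ (by omega))) zr hz0
  refine ⟨p, ?_⟩
  rw [hΦtop] at hp
  refine mem_map_of_smul_mem (M'.X q0) (topT gl q0) hTg.gen hTg.inj (Ideal.ofList fl) _ ?_
  have h2 : (r - algebraMap P R p * C.det) • topT gl q0 =
      zr - algebraMap P R p • C.det • topT gl q0 := by
    rw [sub_smul, mul_smul]
  rw [h2]
  exact hp

end main

end Groth.Agent.Lib.Helper16.Wiebe
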